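import Cfsg.Agent.Lib.Char.InvariantAbove
import Cfsg.Agent.Lib.Char.DegreeRatio
import Cfsg.Agent.Lib.Char.Ramified

/-!
# Multiplicities along subgroups of an ambient group
-/

set_option autoImplicit false
set_option linter.unusedSectionVars false

namespace CfsgLib.Char.OddSection

open scoped ComplexConjugate
open Cfsg CfsgLib.Char

universe u

variable {Γ : Type u} [Group Γ] [Finite Γ]

noncomputable local instance (priority := high) instFintypeSub (A : Subgroup Γ) : Fintype A := Fintype.ofFinite _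

noncomputable local instance instFintypeSub₂ {A : Subgroup Γ} (B : Subgroup A) : Fintype B := Fintype.ofFinite _

noncomputable local instance instFintypeIrr (A : Subgroup Γ) : Fintype (IrrCharacter A) := Fintype.ofFinite _

variable {A B C : Subgroup Γ}

/-- Restriction. -/
def res (h : A ≤ B) (f : B → ℂ) : A → ℂ := fun a => f ⟨a, h a.2⟩

/-- `T` fixes `f` under conjugation. -/
def IsInv (T A : Subgroup Γ) (f : A → ℂ) : Prop :=
  ∀ s ∈ T, ∀ a a' : A, (a' : Γ) = s * a * s⁻¹ → f a' = f a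

/-- `B` normalises `A`. -/
def NormBy (B A : Subgroup Γ) : Prop := ∀ b ∈ B, ∀ a ∈ A, b * a * b⁻¹ ∈ A

theorem NormBy.le_normalizer (h : NormBy B A) : B ≤ Subgroup.normalizer (A : Set Γ) := fun b hb => by
  rw [Subgroup.mem_normalizer_iff]
  exact fun x => ⟨h b hb x, fun hx => by simpa [mul_assoc] using h _ (inv_mem hb) _ hx⟩

theorem NormBy.normal (h : NormBy B A) : (A.subgroupOf B).Normal :=
  ⟨fun n hn g => Subgroup.mem_subgroupOf.mpr (h g g.2 _ (Subgroup.mem_subgroupOf.mp hn))⟩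

theorem normBy_self (A : Subgroup Γ) : NormBy A A := fun _ hb _ ha => mul_mem (mul_mem hb ha) (inv_mem hb)

theorem isInv_self (χ : IrrCharacter A) : IsInv A A (χ : A → ℂ) := fun s hs a a' e => by
  rw [show a' = (⟨s, hs⟩ : A) * a * ⟨s, hs⟩⁻¹ from Subtype.ext e]
  exact isClassFunction_irr χ a ⟨s, hs⟩

/-- The multiplicity of `ψ` in the restriction of `χ`. -/
noncomputable def mlt (h : A ≤ B) (χ : IrrCharacter B) (ψ : IrrCharacter A) : ℕ :=
  Classical.choose (classInner_char_irr_nat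
    (isCharacter_comp (isCharacter_irr χ) (Subgroup.inclusion h)) ψ)

theorem classInner_res (h : A ≤ B) (χ : IrrCharacter B) (ψ : IrrCharacter A) :
    classInner (res h (χ : B → ℂ)) (ψ : A → ℂ) = (mlt h χ ψ : ℂ) :=
  Classical.choose_spec (classInner_char_irr_nat
    (isCharacter_comp (isCharacter_irr χ) (Subgroup.inclusion h)) ψ)

theorem mlt_eq_of (h : A ≤ B) {χ : IrrCharacter B} {ψ : IrrCharacter A} {m : ℕ}
    (e : classInner (res h (χ : B → ℂ)) (ψ : A → ℂ) = (m : ℂ)) : mlt h χ ψ = m := by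
  rw [classInner_res] at e
  exact_mod_cast e

theorem isClassFunction_res (h : A ≤ B) {f : B → ℂ} (hf : IsClassFunction B f) : IsClassFunction A (res h f) :=
  fun g k => hf ⟨g, h g.2⟩ ⟨k, h k.2⟩

theorem res_expand (h : A ≤ B) (χ : IrrCharacter B) :
    res h (χ : B → ℂ) = ∑ ψ : IrrCharacter A, (mlt h χ ψ : ℂ) • (ψ : A → ℂ) := by
  conv_lhs => rw [classFun_expand (isClassFunction_res h (isClassFunction_irr χ))]
  exact Finset.sum_congr rfl fun ψ _ => by rw [classInner_res]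

theorem mlt_trans (h : A ≤ B) (h' : B ≤ C) (χ : IrrCharacter C) (ψ : IrrCharacter A) :
    mlt (h.trans h') χ ψ = ∑ η : IrrCharacter B, mlt h' χ η * mlt h η ψ := by
  refine mlt_eq_of _ ?_
  have e : res (h.trans h') (χ : C → ℂ) = ∑ η : IrrCharacter B, (mlt h' χ η : ℂ) • res h (η : B → ℂ) := by
    funext a
    have h1 := congrFun (res_expand h' χ) ⟨a, h a.2⟩
    simpa [res, Finset.sum_apply] using h1
  rw [e, classInner_sum_left, Nat.cast_sum]
  exact Finset.sum_congr rfl fun η _ => by rw [classInner_smul_left, classInner_res, Nat.cast_mul]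

theorem mlt_trans_ne (h : A ≤ B) (h' : B ≤ C) {χ : IrrCharacter C} {η : IrrCharacter B} {ψ : IrrCharacter A}
    (h1 : mlt h' χ η ≠ 0) (h2 : mlt h η ψ ≠ 0) : mlt (h.trans h') χ ψ ≠ 0 := by
  rw [mlt_trans h h']
  intro e
  exact (Nat.mul_ne_zero h1 h2) (Finset.sum_eq_zero_iff.mp e η (Finset.mem_univ _))

theorem mlt_trans_exists (h : A ≤ B) (h' : B ≤ C) {χ : IrrCharacter C} {ψ : IrrCharacter A}
    (h1 : mlt (h.trans h') χ ψ ≠ 0) : ∃ η : IrrCharacter B, mlt h' χ η ≠ 0 ∧ mlt h η ψ ≠ 0 := by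
  rw [mlt_trans h h'] at h1
  obtain ⟨η, -, hη⟩ := Finset.exists_ne_zero_of_sum_ne_zero h1
  exact ⟨η, left_ne_zero_of_mul hη, right_ne_zero_of_mul hη⟩

theorem exists_constituent (h : A ≤ B) (χ : IrrCharacter B) : ∃ ψ : IrrCharacter A, mlt h χ ψ ≠ 0 := by
  by_contra hc
  push Not at hc
  have h1 := congrFun (res_expand h χ) 1
  simp only [hc, Nat.cast_zero, zero_smul, Finset.sum_const_zero, Pi.zero_apply] at h1
  exact irr_one_ne_zero χ h1

/-- The copy of `A` inside `B`. -/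
noncomputable def eSub (h : A ≤ B) : A.subgroupOf B ≃* A := Subgroup.subgroupOfEquivOfLe h

/-- A character of `A` on the copy of `A` inside `B`. -/
noncomputable def irrSub (h : A ≤ B) (θ : IrrCharacter A) : IrrCharacter (A.subgroupOf B) :=
  ⟨fun x => (θ : A → ℂ) (eSub h x),
    isIrrCharacter_comp_surjective θ.2 (eSub h).toMonoidHom (eSub h).surjective⟩

theorem irrSub_injective (h : A ≤ B) : Function.Injective (irrSub h) := fun θ θ' e =>
  Subtype.ext (funext fun a => by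
    have := congrFun (congrArg Subtype.val e) ((eSub h).symm a)
    simpa [irrSub] using this)

theorem classInner_sub (h : A ≤ B) (f : B → ℂ) (θ : IrrCharacter A) :
    classInner (fun n : A.subgroupOf B => f n) (irrSub h θ : A.subgroupOf B → ℂ) =
      classInner (res h f) (θ : A → ℂ) :=
  classInner_equiv (eSub h) (res h f) (θ : A → ℂ)

/-- The constituents of a restriction to a normal subgroup are conjugate. -/
theorem exists_conj (h : A ≤ B) (hn : NormBy B A) {χ : IrrCharacter B} {θ θ' : IrrCharacter A}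
    (h1 : mlt h χ θ ≠ 0) (h2 : mlt h χ θ' ≠ 0) :
    ∃ b ∈ B, ∀ a a' : A, (a' : Γ) = b * a * b⁻¹ → (θ' : A → ℂ) a = (θ : A → ℂ) a' := by
  haveI := hn.normal
  by_contra hc
  push Not at hc
  refine h2 ?_
  have h0 := classInner_restrict_zero (A.subgroupOf B) χ.2 (irrSub h θ).2 (irrSub h θ').2
    (by rw [classInner_sub, classInner_res]; exact_mod_cast h1) fun g hg => by
      obtain ⟨a, a', e, hne⟩ := hc g g.2
      apply hne
      have := congrFun hg ((eSub h).symm a)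
      simp only [conjFun, irrSub] at this
      rw [MulEquiv.apply_symm_apply] at this
      rw [← this]
      exact congrArg _ (Subtype.ext e.symm)
  rw [classInner_sub, classInner_res] at h0
  exact_mod_cast h0

theorem conjFun_irrSub (h : A ≤ B) [(A.subgroupOf B).Normal] {θ : IrrCharacter A}
    (hinv : IsInv B A (θ : A → ℂ)) (g : B) :
    conjFun (A.subgroupOf B) (irrSub h θ : A.subgroupOf B → ℂ) g = irrSub h θ :=
  funext fun x => hinv g g.2 (eSub h x) _ rfl

/-- Restriction to a normal subgroup of a character over an invariant one. -/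
theorem res_eq_smul (h : A ≤ B) (hn : NormBy B A) {χ : IrrCharacter B} {θ : IrrCharacter A}
    (hinv : IsInv B A (θ : A → ℂ)) (h1 : mlt h χ θ ≠ 0) :
    res h (χ : B → ℂ) = (mlt h χ θ : ℂ) • (θ : A → ℂ) := by
  haveI := hn.normal
  obtain ⟨e, -, he, hres⟩ := restrict_eq_smul_of_invariant (A.subgroupOf B) χ.2 (irrSub h θ).2
    (by rw [classInner_sub, classInner_res]; exact_mod_cast h1) (conjFun_irrSub h hinv)
  rw [classInner_sub, classInner_res] at he
  funext a
  have h2 := congrFun hres ((eSub h).symm a)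
  rw [← he] at h2
  simp only [irrSub, Pi.smul_apply, smul_eq_mul, MulEquiv.apply_symm_apply] at h2
  simp only [res, Pi.smul_apply, smul_eq_mul]
  exact h2

theorem eq_of_over_inv (h : A ≤ B) (hn : NormBy B A) {χ : IrrCharacter B} {θ θ' : IrrCharacter A}
    (hinv : IsInv B A (θ : A → ℂ)) (h1 : mlt h χ θ ≠ 0) (h2 : mlt h χ θ' ≠ 0) : θ' = θ := by
  by_contra hne
  refine h2 (mlt_eq_of h ?_)
  rw [res_eq_smul h hn hinv h1, classInner_smul_left, classInner_irr_ne (Ne.symm hne), mul_zero, Nat.cast_zero]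

theorem classInner_res_self (h : A ≤ B) (hn : NormBy B A) {χ : IrrCharacter B} {θ : IrrCharacter A}
    (hinv : IsInv B A (θ : A → ℂ)) (h1 : mlt h χ θ ≠ 0) :
    classInner (res h (χ : B → ℂ)) (res h (χ : B → ℂ)) = ((mlt h χ θ) ^ 2 : ℕ) := by
  rw [res_eq_smul h hn hinv h1, classInner_smul_left, classInner_smul_right, classInner_irr_self, map_natCast,
    mul_one, ← Nat.cast_mul, pow_two]

theorem mlt_dvd_relIndex (h : A ≤ B) (hn : NormBy B A) {χ : IrrCharacter B} {θ : IrrCharacter A}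
    (hinv : IsInv B A (θ : A → ℂ)) (h1 : mlt h χ θ ≠ 0) : mlt h χ θ ∣ A.relIndex B := by
  haveI := hn.normal
  obtain ⟨c, -, hc⟩ := isIrrCharacter_degree χ.2
  obtain ⟨d, hd0, hd⟩ := isIrrCharacter_degree θ.2
  obtain ⟨-, hdiv⟩ := ratio_dvd_index (A.subgroupOf B) χ.2 (irrSub h θ).2
    (by rw [classInner_sub, classInner_res]; exact_mod_cast h1) hc
    (show (θ : A → ℂ) (eSub h 1) = (d : ℂ) by rw [map_one, hd])
  have h2 := congrFun (res_eq_smul h hn hinv h1) 1
  simp only [res, OneMemClass.coe_one, Pi.smul_apply, smul_eq_mul] at h2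
  rw [show (⟨1, h (one_mem A)⟩ : B) = 1 from rfl, hc, hd, ← Nat.cast_mul, Nat.cast_inj] at h2
  rwa [h2, Nat.mul_div_cancel _ hd0] at hdiv

/-- The induced character of an invariant character of a normal subgroup. -/
theorem exists_ind (h : A ≤ B) (hn : NormBy B A) (θ : IrrCharacter A) (hinv : IsInv B A (θ : A → ℂ)) :
    ∃ E : B → ℂ, IsClassFunction B E ∧
      (∀ χ : IrrCharacter B, classInner E (χ : B → ℂ) = (mlt h χ θ : ℂ)) ∧
      (∀ b : B, (b : Γ) ∉ A → E b = 0) ∧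
      ∀ a : A, E ⟨a, h a.2⟩ = (A.relIndex B : ℂ) * (θ : A → ℂ) a := by
  haveI := hn.normal
  refine ⟨indFun (A.subgroupOf B) (irrSub h θ : A.subgroupOf B → ℂ), isClassFunction_indFun _ _, fun χ => ?_,
    fun b hb => indFun_normal_not_mem _ _ (by simpa [Subgroup.mem_subgroupOf] using hb), fun a => ?_⟩
  · rw [classInner_indFun _ _ _ (isClassFunction_irr χ), ← classInner_conj, classInner_sub, classInner_res,
      map_natCast]
  · rw [show (⟨a, h a.2⟩ : B) = (((eSub h).symm a : A.subgroupOf B) : B) from Subtype.ext (by simp [eSub]),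
      indFun_normal_mem,
      Finset.sum_congr rfl (g := fun _ => (θ : A → ℂ) a) fun x _ => by
        have := congrFun (conjFun_irrSub h hinv x) ((eSub h).symm a)
        simpa [conjFun, irrSub] using this,
      Finset.sum_const, Finset.card_univ, ← Nat.card_eq_fintype_card, nsmul_eq_mul,
      ← (A.subgroupOf B).index_mul_card, Subgroup.relIndex, Nat.cast_mul]
    have : (Nat.card (A.subgroupOf B) : ℂ) ≠ 0 := by exact_mod_cast Nat.card_pos.ne'
    field_simp

theorem sum_mlt_sq (h : A ≤ B) (hn : NormBy B A) (θ : IrrCharacter A) (hinv : IsInv B A (θ : A → ℂ)) :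
    ∑ χ : IrrCharacter B, mlt h χ θ ^ 2 = A.relIndex B := by
  classical
  obtain ⟨E, hEc, hEi, hE0, hEA⟩ := exists_ind h hn θ hinv
  have h1 : classInner E E = ((∑ χ : IrrCharacter B, mlt h χ θ ^ 2 : ℕ) : ℂ) := by
    conv_lhs => arg 2; rw [classFun_expand hEc]
    rw [classInner_sum_right, Nat.cast_sum]
    exact Finset.sum_congr rfl fun χ _ => by
      rw [classInner_smul_right, hEi, map_natCast, pow_two, Nat.cast_mul]
  have h2 : classInner E E = (A.relIndex B : ℂ) := by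
    have h3 : ∑ b : B, E b * conj (E b) = ∑ a : A, E ⟨a, h a.2⟩ * conj (E ⟨a, h a.2⟩) := by
      rw [← Finset.sum_filter_of_ne (p := fun b : B => (b : Γ) ∈ A) fun b _ hb => by
        by_contra hb'; exact hb (by rw [hE0 b hb', zero_mul])]
      refine Finset.sum_bij (fun b hb => (⟨(b : Γ), (Finset.mem_filter.mp hb).2⟩ : A))
        (fun b hb => Finset.mem_univ _) (fun b _ b' _ e => Subtype.ext (congrArg (fun x : A => (x : Γ)) e))
        (fun a _ => ⟨⟨a, h a.2⟩, by simp, rfl⟩) fun b hb => rfl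
    have h4 := classInner_irr_self θ
    rw [classInner, inv_mul_eq_one₀ (by exact_mod_cast Nat.card_pos.ne')] at h4
    rw [classInner, h3, Finset.sum_congr rfl fun a _ => by rw [hEA]]
    simp only [map_mul, map_natCast]
    rw [Finset.sum_congr rfl (g := fun a : A => (A.relIndex B : ℂ) ^ 2 * ((θ : A → ℂ) a * conj ((θ : A → ℂ) a)))
      fun a _ => by ring, ← Finset.mul_sum, ← h4,
      ← Subgroup.card_mul_index (A.subgroupOf B), Subgroup.relIndex,
      Nat.card_congr (eSub h).toEquiv, Nat.cast_mul]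
    have e1 : (Nat.card A : ℂ) ≠ 0 := by exact_mod_cast Nat.card_pos.ne'
    have e2 : ((A.subgroupOf B).index : ℂ) ≠ 0 := by exact_mod_cast Subgroup.index_ne_zero_of_finite
    field_simp
  exact_mod_cast h1.symm.trans h2

/-- Invariance passes up through a coprime abelian-by-nothing step: every constituent is fixed. -/
theorem isInv_of_centralized (h : A ≤ B) (S : Subgroup Γ) (hn : NormBy B A) (hSA : NormBy S A)
    (hSB : NormBy S B) (hcent : ∀ b ∈ B, ∀ s ∈ S, s * b * s⁻¹ * b⁻¹ ∈ A)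
    (hcop : (Nat.card B).Coprime (Nat.card S)) {θ : IrrCharacter A} (hθ : IsInv S A (θ : A → ℂ))
    (χ : IrrCharacter B) (hover : mlt h χ θ ≠ 0) : IsInv S B (χ : B → ℂ) := by
  classical
  intro s hs g g' hg'
  set J : Subgroup Γ := A ⊔ Subgroup.zpowers (g : Γ) with hJ
  have hJB : J ≤ B := sup_le h (by rw [Subgroup.zpowers_le]; exact g.2)
  have hAJ : A ≤ J := le_sup_left
  have hgJ : (g : Γ) ∈ J := Subgroup.mem_sup_right (Subgroup.mem_zpowers _)
  have hnJ : NormBy J A := fun b hb => hn b (hJB hb)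
  have hcentJ : ∀ j ∈ J, ∀ r ∈ S, r * j * r⁻¹ * j⁻¹ ∈ A := fun j hj => hcent j (hJB hj)
  have hSJ : NormBy S J := fun r hr j hj => by
    have := mul_mem (hAJ (hcentJ j hj r hr)) hj
    rwa [inv_mul_cancel_right] at this
  haveI := hnJ.normal
  have hab : ∀ a b : J, a * b * a⁻¹ * b⁻¹ ∈ A.subgroupOf J := by
    intro a b
    have hdec : ∀ j : J, ∃ x ∈ A, ∃ i : ℤ, (j : Γ) = x * (g : Γ) ^ i := fun j => by
      have h1 : (j : Γ) ∈ ((A ⊔ Subgroup.zpowers (g : Γ) : Subgroup Γ) : Set Γ) := j.2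
      rw [Subgroup.coe_mul_of_right_le_normalizer_left A _ (by
        rw [Subgroup.zpowers_le]
        exact hn.le_normalizer g.2)] at h1
      obtain ⟨x, hx, y, ⟨i, rfl⟩, e⟩ := h1
      exact ⟨x, hx, i, e.symm⟩
    have hcomm : ∀ (i : ℤ), ∀ x ∈ A, (g : Γ) ^ i * x * ((g : Γ) ^ i)⁻¹ ∈ A := fun i x hx =>
      hn _ (zpow_mem g.2 i) x hx
    obtain ⟨x, hx, i, ea⟩ := hdec a
    obtain ⟨y, hy, k, eb⟩ := hdec b
    show (a : Γ) * b * (a : Γ)⁻¹ * (b : Γ)⁻¹ ∈ A
    rw [ea, eb, show x * (g : Γ) ^ i * (y * (g : Γ) ^ k) * (x * (g : Γ) ^ i)⁻¹ * (y * (g : Γ) ^ k)⁻¹ =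
        x * ((g : Γ) ^ i * y * ((g : Γ) ^ i)⁻¹) * ((g : Γ) ^ k * x⁻¹ * ((g : Γ) ^ k)⁻¹) * y⁻¹ by group]
    exact mul_mem (mul_mem (mul_mem hx (hcomm i y hy)) (hcomm k _ (inv_mem hx))) (inv_mem hy)
  have key : ∀ μ : IrrCharacter J, mlt hJB χ μ ≠ 0 →
      (μ : J → ℂ) ⟨g', hg' ▸ hSJ s hs g hgJ⟩ = (μ : J → ℂ) ⟨g, hgJ⟩ := by
    intro μ hμ
    obtain ⟨θ', hθ'⟩ := exists_constituent hAJ μ
    obtain ⟨b, hb, hbθ⟩ := exists_conj h hn hover (mlt_trans_ne hAJ hJB hμ hθ')
    have hθ'inv : IsInv S A (θ' : A → ℂ) := by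
      intro r hr a a' e
      rw [hbθ a' ⟨_, hn b hb a' a'.2⟩ rfl, hbθ a ⟨_, hn b hb a a.2⟩ rfl]
      have hd : r⁻¹ * b * r * b⁻¹ ∈ A := by
        have := hcent b hb r⁻¹ (inv_mem hr)
        simpa [mul_assoc] using this
      set d := r⁻¹ * b * r * b⁻¹
      have hm : d * (b * a * b⁻¹) * d⁻¹ ∈ A := mul_mem (mul_mem hd (hn b hb a a.2)) (inv_mem hd)
      rw [hθ r hr ⟨_, hm⟩ _ (by simp only [d, e]; group)]
      exact isInv_self θ d hd ⟨_, hn b hb a a.2⟩ ⟨_, hm⟩ rfl
    obtain ⟨μs, hμs⟩ : ∃ μs : IrrCharacter J, ∀ x y : J, (y : Γ) = s * x * s⁻¹ → (μs : J → ℂ) x = (μ : J → ℂ) y := by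
      let φ : J →* J := MonoidHom.mk' (fun x => ⟨s * x * s⁻¹, hSJ s hs x x.2⟩)
        fun a b => Subtype.ext (by simp [mul_assoc])
      have hφ : Function.Surjective φ := fun y =>
        ⟨⟨s⁻¹ * y * s, by simpa using hSJ s⁻¹ (inv_mem hs) y y.2⟩, Subtype.ext (by simp [φ, mul_assoc])⟩
      exact ⟨⟨_, isIrrCharacter_comp_surjective μ.2 φ hφ⟩, fun x y e => congrArg (μ : J → ℂ) (Subtype.ext e.symm)⟩
    have hμs' : mlt hAJ μs θ' ≠ 0 := by
      rw [mlt_eq_of hAJ (m := mlt hAJ μ θ') ?_]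
      · exact hθ'
      rw [← classInner_res hAJ μ θ']
      simp only [classInner]
      congr 1
      refine Fintype.sum_bijective (fun a : A => (⟨s * a * s⁻¹, hSA s hs a a.2⟩ : A)) ?_ _ _ fun a => ?_
      · exact Function.bijective_iff_has_inverse.mpr ⟨fun a => ⟨s⁻¹ * a * s,
          by simpa using hSA s⁻¹ (inv_mem hs) a a.2⟩, fun a => Subtype.ext (by simp [mul_assoc]),
          fun a => Subtype.ext (by simp [mul_assoc])⟩
      · show (μs : J → ℂ) ⟨a, hAJ a.2⟩ * _ = (μ : J → ℂ) ⟨s * a * s⁻¹, _⟩ * _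
        rw [hμs ⟨a, hAJ a.2⟩ ⟨_, hAJ (hSA s hs a a.2)⟩ rfl, hθ'inv s hs a ⟨_, hSA s hs a a.2⟩ rfl]
    have ha1 : classInner (fun n : A.subgroupOf J => (μ : J → ℂ) n) (irrSub hAJ θ' : A.subgroupOf J → ℂ) ≠ 0 := by
      rw [classInner_sub, classInner_res]; exact_mod_cast hθ'
    have ha2 : classInner (fun n : A.subgroupOf J => (μs : J → ℂ) n) (irrSub hAJ θ' : A.subgroupOf J → ℂ) ≠ 0 := by
      rw [classInner_sub, classInner_res]; exact_mod_cast hμs'
    obtain ⟨f, hf, hfμ⟩ := exists_linMul_eq (A.subgroupOf J) hab ha1 ha2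
    have hstep : ∀ x y : J, (y : Γ) = s * x * s⁻¹ → (μ : J → ℂ) y = (f x : ℂ) * (μ : J → ℂ) x := fun x y e => by
      rw [← hμs x y e, ← hfμ]
      rfl
    set x₀ : J := ⟨g, hgJ⟩
    have hconjf : ∀ r ∈ S, ∀ x y : J, (y : Γ) = r * x * r⁻¹ → f y = f x := fun r hr x y e => by
      have h1 : y * x⁻¹ ∈ A.subgroupOf J := by
        show (y : Γ) * (x : Γ)⁻¹ ∈ A
        rw [e]; exact hcentJ x x.2 r hr
      have h2 := hf _ h1
      rwa [map_mul, map_inv, mul_inv_eq_one] at h2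
    have hiter : ∀ n : ℕ, ∀ y : J, (y : Γ) = s ^ n * x₀ * (s ^ n)⁻¹ →
        (μ : J → ℂ) y = (f x₀ : ℂ) ^ n * (μ : J → ℂ) x₀ := by
      intro n
      induction n with
      | zero => intro y e; rw [show y = x₀ from Subtype.ext (by simpa using e), pow_zero, one_mul]
      | succ n ih =>
        intro y e
        have hm : s ^ n * x₀ * (s ^ n)⁻¹ ∈ J := hSJ _ (pow_mem hs n) _ x₀.2
        rw [hstep ⟨_, hm⟩ y (by rw [e, pow_succ']; group), ih ⟨_, hm⟩ rfl,
          hconjf _ (pow_mem hs n) x₀ ⟨_, hm⟩ rfl, pow_succ']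
        ring
    rw [hstep x₀ ⟨g', hg' ▸ hSJ s hs g hgJ⟩ hg']
    rcases eq_or_ne ((μ : J → ℂ) x₀) 0 with h0 | h0
    · rw [h0, mul_zero]
    have h1 : f x₀ ^ Nat.card S = 1 := by
      have h2 := hiter (Nat.card S) x₀ (by
        rw [show s ^ Nat.card S = 1 from congrArg Subtype.val (pow_card_eq_one' (x := (⟨s, hs⟩ : S)))]; simp)
      exact Units.ext (by rw [Units.val_pow_eq_pow_val, Units.val_one]; exact (mul_eq_right₀ h0).mp h2.symm)
    have h3 : f x₀ ^ Nat.card B = 1 := by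
      obtain ⟨q, hq⟩ : Nat.card J ∣ Nat.card B := Subgroup.card_dvd_of_le hJB
      rw [hq, pow_mul, ← map_pow, pow_card_eq_one', map_one, one_pow]
    have h4 := pow_gcd_eq_one.mpr ⟨h3, h1⟩
    rw [hcop.gcd_eq_one, pow_one] at h4
    rw [h4, Units.val_one, one_mul]
  have e1 := congrFun (res_expand hJB χ) ⟨g', hg' ▸ hSJ s hs g hgJ⟩
  have e2 := congrFun (res_expand hJB χ) ⟨g, hgJ⟩
  simp only [res, Finset.sum_apply, Pi.smul_apply] at e1 e2
  rw [show g' = ⟨(g' : Γ), g'.2⟩ from rfl, show g = ⟨(g : Γ), g.2⟩ from rfl]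
  refine e1.trans (Eq.trans ?_ e2.symm)
  refine Finset.sum_congr rfl fun μ _ => ?_
  rcases eq_or_ne (mlt hJB χ μ) 0 with h0 | h0
  · rw [h0, Nat.cast_zero, zero_smul, zero_smul]
  · rw [key μ h0]

end CfsgLib.Char.OddSection
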