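import Cfsg.Agent.Lib.Char.OddSection.Ctx
import Cfsg.Agent.Lib.Char.Correspondence

/-!
# The Clifford correspondence along subgroups of an ambient group
-/

set_option autoImplicit false
set_option linter.unusedSectionVars false

namespace CfsgLib.Char.OddSection

open scoped ComplexConjugate
open Cfsg CfsgLib.Char

universe u

attribute [local instance] instFintypeSub instFintypeSub₂ instFintypeIrr

variable {Γ : Type u} [Group Γ] [Finite Γ] {A B T R : Subgroup Γ}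

/-- Conjugation by an element of the normaliser. -/
def cjA {s : Γ} (hs : s ∈ Subgroup.normalizer (A : Set Γ)) : A ≃* A where
  toFun a := ⟨s * a * s⁻¹, (Subgroup.mem_normalizer_iff.mp hs a).mp a.2⟩
  invFun a := ⟨s⁻¹ * a * s, by simpa using (Subgroup.mem_normalizer_iff.mp (inv_mem hs) a).mp a.2⟩
  left_inv a := Subtype.ext (by simp [mul_assoc])
  right_inv a := Subtype.ext (by simp [mul_assoc])
  map_mul' a b := Subtype.ext (by simp [mul_assoc])

/-- The twisted character. -/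
noncomputable def tw {s : Γ} (hs : s ∈ Subgroup.normalizer (A : Set Γ)) (θ : IrrCharacter A) : IrrCharacter A :=
  ⟨fun a => (θ : A → ℂ) (cjA hs a), isIrrCharacter_comp_surjective θ.2 (cjA hs).toMonoidHom (cjA hs).surjective⟩

theorem tw_apply {s : Γ} (hs : s ∈ Subgroup.normalizer (A : Set Γ)) (θ : IrrCharacter A) (a a' : A)
    (e : (a' : Γ) = s * a * s⁻¹) : (tw hs θ : A → ℂ) a = (θ : A → ℂ) a' :=
  congrArg (θ : A → ℂ) (Subtype.ext e.symm)

theorem tw_eq_of_inv {S : Subgroup Γ} {s : Γ} (hs : s ∈ Subgroup.normalizer (A : Set Γ)) (hsS : s ∈ S)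
    {θ : IrrCharacter A} (h : IsInv S A (θ : A → ℂ)) : tw hs θ = θ :=
  Subtype.ext (funext fun a => h s hsS a (cjA hs a) rfl)

theorem isInv_of_tw {S : Subgroup Γ} (hS : NormBy S A) {θ : IrrCharacter A}
    (h : ∀ s (hs : s ∈ S), tw (hS.le_normalizer hs) θ = θ) : IsInv S A (θ : A → ℂ) := fun s hs a a' e => by
  rw [← tw_apply (hS.le_normalizer hs) θ a a' e, h s hs]

theorem mlt_tw (h : A ≤ B) {s : Γ} (hA : s ∈ Subgroup.normalizer (A : Set Γ))
    (hB : s ∈ Subgroup.normalizer (B : Set Γ)) (χ : IrrCharacter B) (θ : IrrCharacter A) :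
    mlt h (tw hB χ) (tw hA θ) = mlt h χ θ := by
  refine mlt_eq_of h ?_
  rw [← classInner_res h χ θ, ← classInner_equiv (cjA hA) (res h (χ : B → ℂ)) (θ : A → ℂ)]
  exact congrArg (fun f => classInner f _) (funext fun a => tw_apply hB χ ⟨a, h a.2⟩ _ rfl)

/-- The inertia group of a character of a normal subgroup. -/
structure IsInertia (A B T : Subgroup Γ) (θ : IrrCharacter A) : Prop where
  hAB : A ≤ B
  hn : NormBy B A
  hTB : T ≤ B
  hAT : A ≤ T
  mem : ∀ b ∈ B, (b ∈ T ↔ ∀ a a' : A, (a' : Γ) = b * a * b⁻¹ → (θ : A → ℂ) a' = (θ : A → ℂ) a)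

namespace IsInertia

variable {θ : IrrCharacter A} (i : IsInertia A B T θ)
include i

theorem inertia_eq [(A.subgroupOf B).Normal] :
    inertia (A.subgroupOf B) (irrSub i.hAB θ : A.subgroupOf B → ℂ) = T.subgroupOf B := by
  ext b
  rw [mem_inertia, Subgroup.mem_subgroupOf, i.mem b b.2]
  constructor
  · intro h a a' e
    have h1 := congrFun h ((eSub i.hAB).symm a)
    simp only [conjFun, irrSub] at h1
    rw [MulEquiv.apply_symm_apply] at h1
    rw [← h1]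
    exact congrArg _ (Subtype.ext e)
  · intro h
    exact funext fun x => h (eSub i.hAB x) _ rfl

/-- The character of `B` induced from one of the inertia group. -/
theorem exists_up (ξ : IrrCharacter T) (h : mlt i.hAT ξ θ ≠ 0) :
    ∃ χ : IrrCharacter B, mlt i.hAB χ θ = mlt i.hAT ξ θ ∧
      ∀ f : B → ℂ, IsClassFunction B f → classInner f (χ : B → ℂ) = classInner (res i.hTB f) (ξ : T → ℂ) := by
  haveI := i.hn.normal
  set I := inertia (A.subgroupOf B) (irrSub i.hAB θ : A.subgroupOf B → ℂ) with hI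
  let e : I ≃* T := (MulEquiv.subgroupCongr i.inertia_eq).trans (Subgroup.subgroupOfEquivOfLe i.hTB)
  let ξ' : IrrCharacter I :=
    ⟨fun x => (ξ : T → ℂ) (e x), isIrrCharacter_comp_surjective ξ.2 e.toMonoidHom e.surjective⟩
  have hNI : A.subgroupOf B ≤ I := by
    rw [hI, i.inertia_eq]
    exact fun x hx => i.hAT hx
  have h1 : classInner (fun n : A.subgroupOf B => (ξ' : I → ℂ) (Subgroup.inclusion hNI n))
      (irrSub i.hAB θ : A.subgroupOf B → ℂ) = (mlt i.hAT ξ θ : ℂ) := by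
    rw [← classInner_res i.hAT ξ θ]
    exact classInner_equiv (eSub i.hAB) (res i.hAT (ξ : T → ℂ)) (θ : A → ℂ)
  obtain ⟨hirr, hm⟩ := correspondence_irr (A.subgroupOf B) (irrSub i.hAB θ).2 hNI ξ'
    (by rw [h1]; exact_mod_cast h)
  refine ⟨⟨_, hirr⟩, mlt_eq_of _ ?_, fun f hf => ?_⟩
  · rw [← classInner_sub]
    exact hm.trans h1
  · show classInner f (indFun I (ξ' : I → ℂ)) = _
    rw [classInner_indFun_right I _ f hf, ← classInner_equiv e (res i.hTB f) (ξ : T → ℂ)]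
    rfl

theorem up_unique {ξ : IrrCharacter T} (h : mlt i.hAT ξ θ ≠ 0) {χ χ' : IrrCharacter B}
    (h1 : mlt i.hTB χ ξ ≠ 0) (h2 : mlt i.hTB χ' ξ ≠ 0) : χ = χ' := by
  obtain ⟨χ0, -, hf⟩ := i.exists_up ξ h
  have key : ∀ χ'' : IrrCharacter B, mlt i.hTB χ'' ξ ≠ 0 → χ'' = χ0 := by
    intro χ'' hne
    by_contra hne'
    have h3 := hf _ (isClassFunction_irr χ'')
    rw [classInner_irr_ne hne', classInner_res] at h3
    exact hne (by exact_mod_cast h3.symm)
  rw [key χ h1, key χ' h2]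

theorem mlt_one {ξ : IrrCharacter T} (h : mlt i.hAT ξ θ ≠ 0) {χ : IrrCharacter B} (h1 : mlt i.hTB χ ξ ≠ 0) :
    mlt i.hTB χ ξ = 1 ∧ mlt i.hAB χ θ = mlt i.hAT ξ θ ∧
      ∀ f : B → ℂ, IsClassFunction B f → classInner f (χ : B → ℂ) = classInner (res i.hTB f) (ξ : T → ℂ) := by
  obtain ⟨χ0, hm, hf⟩ := i.exists_up ξ h
  have e1 : mlt i.hTB χ0 ξ = 1 := mlt_eq_of _ (by
    rw [← hf _ (isClassFunction_irr χ0), classInner_irr_self, Nat.cast_one])
  obtain rfl := i.up_unique h h1 (show mlt i.hTB χ0 ξ ≠ 0 by rw [e1]; exact one_ne_zero)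
  exact ⟨e1, hm, hf⟩

theorem exists_down {χ : IrrCharacter B} (h : mlt i.hAB χ θ ≠ 0) :
    ∃ ξ : IrrCharacter T, mlt i.hTB χ ξ ≠ 0 ∧ mlt i.hAT ξ θ ≠ 0 :=
  mlt_trans_exists i.hAT i.hTB h

theorem down_unique {χ : IrrCharacter B} {ξ ξ' : IrrCharacter T} (h : mlt i.hAT ξ θ ≠ 0)
    (h' : mlt i.hAT ξ' θ ≠ 0) (h1 : mlt i.hTB χ ξ ≠ 0) (h2 : mlt i.hTB χ ξ' ≠ 0) : ξ = ξ' := by
  classical
  obtain ⟨e1, e2, -⟩ := i.mlt_one h h1
  obtain ⟨e3, -, -⟩ := i.mlt_one h' h2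
  by_contra hne
  have h3 := mlt_trans i.hAT i.hTB χ θ
  rw [← Finset.add_sum_erase _ _ (Finset.mem_univ ξ), ← Finset.add_sum_erase _ _
    (Finset.mem_erase.mpr ⟨Ne.symm hne, Finset.mem_univ ξ'⟩), e1, e3] at h3
  omega

theorem mlt_restrict {χ : IrrCharacter B} {ξ : IrrCharacter T} (h : mlt i.hAT ξ θ ≠ 0)
    (h1 : mlt i.hTB χ ξ ≠ 0) (hAR : A ≤ R) (hRT : R ≤ T) {η : IrrCharacter R} (hη : mlt hAR η θ ≠ 0) :
    mlt (hRT.trans i.hTB) χ η = mlt hRT ξ η := by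
  classical
  rw [mlt_trans hRT i.hTB, Finset.sum_eq_single ξ, (i.mlt_one h h1).1, one_mul]
  · intro ζ _ hne
    by_contra h0
    rw [← ne_eq, mul_ne_zero_iff] at h0
    exact hne (i.down_unique (mlt_trans_ne hAR hRT h0.2 hη) h h0.1 h1)
  · simp

theorem down_tw {s : Γ} (hA : s ∈ Subgroup.normalizer (A : Set Γ)) (hB : s ∈ Subgroup.normalizer (B : Set Γ))
    (hT : s ∈ Subgroup.normalizer (T : Set Γ)) {χ : IrrCharacter B} {ξ : IrrCharacter T}
    (h : mlt i.hAT ξ θ ≠ 0) (h1 : mlt i.hTB χ ξ ≠ 0) (hθ : tw hA θ = θ) (hχ : tw hB χ = χ) :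
    tw hT ξ = ξ := by
  refine i.down_unique (χ := χ) ?_ h ?_ h1
  · have e := mlt_tw i.hAT hA hT ξ θ
    rw [hθ] at e
    rw [e]; exact h
  · rw [← hχ, mlt_tw]; exact h1

theorem up_tw {s : Γ} (hB : s ∈ Subgroup.normalizer (B : Set Γ))
    (hT : s ∈ Subgroup.normalizer (T : Set Γ)) {χ : IrrCharacter B} {ξ : IrrCharacter T}
    (h : mlt i.hAT ξ θ ≠ 0) (h1 : mlt i.hTB χ ξ ≠ 0) (hξ : tw hT ξ = ξ) : tw hB χ = χ := by
  refine i.up_unique h ?_ h1
  rw [← hξ, mlt_tw]; exact h1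

end IsInertia

end CfsgLib.Char.OddSection
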