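import Cfsg.Agent.Lib.Char.Determine
import Cfsg.Agent.Lib.Char.Scalar
import Mathlib.LinearAlgebra.TensorProduct.Pi
import Mathlib.LinearAlgebra.Matrix.ToLin
import Mathlib.LinearAlgebra.GeneralLinearGroup.AlgEquiv
import Mathlib.Algebra.Central.End

/-!
# The commutant of an isotypic representation is a full matrix algebra
-/

set_option autoImplicit false
set_option linter.unusedSectionVars false

namespace CfsgLib.Char.OddSection

open Representation Module Cfsg CfsgLib.Char
open scoped TensorProduct

universe u v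

variable {L : Type u} [Group L] {U : Type v} [AddCommGroup U] [Module ℂ U] (σ : Representation ℂ L U) {e : ℕ}

/-- A matrix of scalars acting on tuples. -/
noncomputable def matEnd : Matrix (Fin e) (Fin e) ℂ →ₐ[ℂ] Module.End ℂ (Fin e → U) :=
  AlgHom.ofLinearMap
    { toFun := fun a => LinearMap.pi fun i => ∑ j, a i j • LinearMap.proj j
      map_add' := fun a b => LinearMap.ext fun f => funext fun i => by
        simp [add_smul, Finset.sum_add_distrib]
      map_smul' := fun c a => LinearMap.ext fun f => funext fun i => by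
        simp [Finset.smul_sum, smul_smul] }
    (LinearMap.ext fun f => funext fun i => by
      simp [Matrix.one_apply, ite_smul])
    (fun a b => LinearMap.ext fun f => funext fun i => by
      simp [Matrix.mul_apply, Finset.sum_smul, Finset.smul_sum, smul_smul]
      rw [Finset.sum_comm])

theorem matEnd_apply (a : Matrix (Fin e) (Fin e) ℂ) (f : Fin e → U) (i : Fin e) :
    matEnd a f i = ∑ j, a i j • f j := by
  simp [matEnd]

/-- The diagonal sum of copies of a representation. -/
noncomputable def diagRep (e : ℕ) : Representation ℂ L (Fin e → U) where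
  toFun l := LinearMap.pi fun i => (σ l) ∘ₗ LinearMap.proj i
  map_one' := LinearMap.ext fun f => funext fun i => by simp
  map_mul' a b := LinearMap.ext fun f => funext fun i => by simp

theorem diagRep_apply (l : L) (f : Fin e → U) (i : Fin e) : diagRep σ e l f i = σ l (f i) := by
  simp [diagRep]

theorem character_diagRep [FiniteDimensional ℂ U] :
    (diagRep σ e).character = fun l => (e : ℂ) * σ.character l := by
  classical
  let E : U ⊗[ℂ] (Fin e → ℂ) ≃ₗ[ℂ] (Fin e → U) := TensorProduct.piScalarRight ℂ ℂ U (Fin e)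
  have h : diagRep σ e = conjRep (σ.tprod (Representation.trivial ℂ L (Fin e → ℂ))) E := by
    refine MonoidHom.ext fun l => LinearMap.ext fun f => ?_
    obtain ⟨x, rfl⟩ := E.surjective f
    rw [conjRep_apply]
    induction x using TensorProduct.induction_on with
    | zero => simp
    | tmul u w => funext i; simp [E, diagRep_apply, Representation.tprod_apply, map_smul]
    | add x y hx hy => simp only [map_add, hx, hy]
  rw [h, character_conjRep, Representation.char_tensor]
  funext l
  rw [Pi.mul_apply, mul_comm]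
  congr 1
  show LinearMap.trace ℂ (Fin e → ℂ) (Representation.trivial ℂ L (Fin e → ℂ) l) = _
  rw [show Representation.trivial ℂ L (Fin e → ℂ) l = LinearMap.id from LinearMap.ext fun v => by simp,
    LinearMap.trace_id]
  simp

theorem matEnd_comm (a : Matrix (Fin e) (Fin e) ℂ) (l : L) :
    diagRep σ e l * matEnd a = matEnd a * diagRep σ e l :=
  LinearMap.ext fun f => funext fun i => by
    simp [diagRep_apply, matEnd_apply, map_sum, map_smul]

theorem exists_matEnd [FiniteDimensional ℂ U] [σ.IsIrreducible] (Y : Module.End ℂ (Fin e → U))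
    (hY : ∀ l, diagRep σ e l * Y = Y * diagRep σ e l) : ∃ a, matEnd a = Y := by
  classical
  have hblock : ∀ i j : Fin e, ∃ c : ℂ, LinearMap.proj i ∘ₗ Y ∘ₗ LinearMap.single ℂ (fun _ : Fin e => U) j =
      c • LinearMap.id := by
    intro i j
    refine schur_scalar σ _ fun l => LinearMap.ext fun u => ?_
    have hs : diagRep σ e l (Pi.single j u) = Pi.single j (σ l u) := funext fun k => by
      rw [diagRep_apply]
      rcases eq_or_ne k j with rfl | hk
      · simp
      · simp [Pi.single_eq_of_ne hk]
    have h1 := congrFun (LinearMap.congr_fun (hY l) (Pi.single j u)) i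
    simp only [Module.End.mul_apply, diagRep_apply, hs] at h1
    simpa using h1.symm
  choose a ha using hblock
  refine ⟨Matrix.of a, LinearMap.pi_ext fun j u => funext fun i => ?_⟩
  have h1 := LinearMap.congr_fun (ha i j) u
  simp only [LinearMap.comp_apply, LinearMap.coe_single, LinearMap.coe_proj, Function.eval,
    LinearMap.smul_apply, LinearMap.id_apply] at h1
  rw [matEnd_apply, h1]
  simp [Pi.single_apply, smul_ite]

theorem matEnd_injective [Nontrivial U] : Function.Injective (matEnd (U := U) (e := e)) := by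
  intro a b h
  obtain ⟨u, hu⟩ := exists_ne (0 : U)
  refine Matrix.ext fun i j => ?_
  have h1 := congrFun (LinearMap.congr_fun h (Pi.single j u)) i
  simp only [matEnd_apply, Pi.single_apply, smul_ite, smul_zero, Finset.sum_ite_eq', Finset.mem_univ,
    if_true] at h1
  exact smul_left_injective ℂ hu h1

variable [Finite L]

/-- The commutant of an isotypic representation. -/
theorem exists_commutant_equiv [FiniteDimensional ℂ U] [σ.IsIrreducible] {V : Type v} [AddCommGroup V]
    [Module ℂ V] [FiniteDimensional ℂ V] (ρ : Representation ℂ L V)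
    (h : ρ.character = fun l => (e : ℂ) * σ.character l) :
    Nonempty ((Subalgebra.centralizer ℂ (Set.range fun l : L => (ρ l : Module.End ℂ V))) ≃ₐ[ℂ]
      Module.End ℂ (Fin e → ℂ)) := by
  classical
  obtain ⟨Φ⟩ := nonempty_equiv_of_character_eq (diagRep σ e) ρ (by rw [character_diagRep, h])
  have hΦ : ∀ l, Φ.toLinearEquiv.conjAlgEquiv ℂ (diagRep σ e l) = ρ l := fun l => LinearMap.ext fun v => by
    simp only [LinearEquiv.conjAlgEquiv_apply, LinearMap.comp_apply]
    obtain ⟨w, rfl⟩ := Φ.toLinearEquiv.surjective v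
    simp only [LinearEquiv.coe_coe, LinearEquiv.symm_apply_apply]
    exact (LinearMap.congr_fun (Φ.toIntertwiningMap.isIntertwining' l) w)
  haveI : Nontrivial U := nontrivial_of_irreducible σ
  let f : Matrix (Fin e) (Fin e) ℂ →ₐ[ℂ] Module.End ℂ V := (Φ.toLinearEquiv.conjAlgEquiv ℂ).toAlgHom.comp matEnd
  have hf : ∀ a, f a ∈ Subalgebra.centralizer ℂ (Set.range fun l : L => (ρ l : Module.End ℂ V)) := by
    intro a
    rw [Subalgebra.mem_centralizer_iff]
    rintro _ ⟨l, rfl⟩
    show ρ l * Φ.toLinearEquiv.conjAlgEquiv ℂ (matEnd a) = Φ.toLinearEquiv.conjAlgEquiv ℂ (matEnd a) * ρ l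
    rw [← hΦ, ← map_mul, ← map_mul, matEnd_comm]
  let f' := f.codRestrict _ hf
  have hinj : Function.Injective f' := fun a b hab =>
    matEnd_injective ((Φ.toLinearEquiv.conjAlgEquiv ℂ).injective (congrArg Subtype.val hab))
  have hsurj : Function.Surjective f' := by
    rintro ⟨Y, hY⟩
    rw [Subalgebra.mem_centralizer_iff] at hY
    obtain ⟨a, ha⟩ := exists_matEnd σ ((Φ.toLinearEquiv.conjAlgEquiv ℂ).symm Y) fun l => by
      apply (Φ.toLinearEquiv.conjAlgEquiv ℂ).injective
      rw [map_mul, map_mul, AlgEquiv.apply_symm_apply, hΦ]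
      exact hY _ ⟨l, rfl⟩
    exact ⟨a, Subtype.ext (by show Φ.toLinearEquiv.conjAlgEquiv ℂ (matEnd a) = Y; rw [ha, AlgEquiv.apply_symm_apply])⟩
  exact ⟨(AlgEquiv.ofBijective f' ⟨hinj, hsurj⟩).symm.trans Matrix.toLinAlgEquiv'⟩

/-- An algebra isomorphic to a full endomorphism algebra has scalar centre. -/
theorem central_of_equiv {M : Type*} [Ring M] [Algebra ℂ M] (Ψ : M ≃ₐ[ℂ] Module.End ℂ (Fin e → ℂ)) (z : M)
    (hz : ∀ Y, z * Y = Y * z) : ∃ c : ℂ, z = c • (1 : M) := by
  have h : Ψ z ∈ Subalgebra.center ℂ (Module.End ℂ (Fin e → ℂ)) := by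
    rw [Subalgebra.mem_center_iff]
    intro Y
    rw [← Ψ.apply_symm_apply Y, ← map_mul, ← map_mul, hz]
  rw [Algebra.IsCentral.center_eq_bot, Algebra.mem_bot] at h
  obtain ⟨c, hc⟩ := h
  refine ⟨c, Ψ.injective ?_⟩
  rw [map_smul, map_one, ← hc, Algebra.algebraMap_eq_smul_one]

/-- An algebra isomorphic to a full endomorphism algebra has inner automorphisms. -/
theorem inner_of_equiv {M : Type*} [Ring M] [Algebra ℂ M] (Ψ : M ≃ₐ[ℂ] Module.End ℂ (Fin e → ℂ))
    (α : M ≃ₐ[ℂ] M) : ∃ w : Mˣ, ∀ Y, α Y = (w : M) * Y * ((w⁻¹ : Mˣ) : M) := by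
  obtain ⟨T, hT⟩ := ((Ψ.symm.trans α).trans Ψ).eq_linearEquivConjAlgEquiv
  let t : (Module.End ℂ (Fin e → ℂ))ˣ := LinearMap.GeneralLinearGroup.ofLinearEquiv T
  refine ⟨Units.map (Ψ.symm : Module.End ℂ (Fin e → ℂ) →* M) t, fun Y => ?_⟩
  have h := congrFun (congrArg DFunLike.coe hT) (Ψ Y)
  simp only [AlgEquiv.trans_apply, AlgEquiv.symm_apply_apply] at h
  apply Ψ.injective
  rw [h, map_mul, map_mul, ← map_inv]
  simp only [Units.coe_map, MonoidHom.coe_coe, AlgEquiv.apply_symm_apply]
  rfl

end CfsgLib.Char.OddSection
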