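import Cfsg.Agent.Lib.Char.Orthogonality
import Cfsg.Agent.Lib.Char.Scalar
import Cfsg.Agent.Lib.Char.Virtual
import Mathlib.LinearAlgebra.GeneralLinearGroup.AlgEquiv
import Mathlib.LinearAlgebra.Matrix.Basis
import Mathlib.LinearAlgebra.Trace

/-!
# Endomorphism facts for the involution argument
-/

set_option autoImplicit false
set_option linter.unusedSectionVars false

namespace CfsgLib.Char.OddSection

open scoped ComplexConjugate
open Representation Module Cfsg CfsgLib.Char

universe u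

/-- The trace of two-sided multiplication. -/
theorem trace_mulLeftRight {n : ℕ} (A B : Module.End ℂ (Fin n → ℂ)) :
    LinearMap.trace ℂ (Module.End ℂ (Fin n → ℂ)) (LinearMap.mulLeftRight ℂ (A, B)) =
      LinearMap.trace ℂ (Fin n → ℂ) A * LinearMap.trace ℂ (Fin n → ℂ) B := by
  classical
  let E := (LinearMap.toMatrixAlgEquiv' : Module.End ℂ (Fin n → ℂ) ≃ₐ[ℂ] Matrix (Fin n) (Fin n) ℂ)
  rw [← LinearMap.trace_conj' (LinearMap.mulLeftRight ℂ (A, B)) E.toLinearEquiv,
    AlgEquiv.linearEquivConj_mulLeftRight, Prod.map_apply,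
    LinearMap.trace_eq_matrix_trace ℂ (Matrix.stdBasis ℂ (Fin n) (Fin n)),
    LinearMap.trace_eq_matrix_trace ℂ (Pi.basisFun ℂ (Fin n)) A,
    LinearMap.trace_eq_matrix_trace ℂ (Pi.basisFun ℂ (Fin n)) B]
  rw [Matrix.trace, Matrix.trace, Matrix.trace, Finset.sum_mul_sum, Fintype.sum_prod_type]
  refine Finset.sum_congr rfl fun i _ => Finset.sum_congr rfl fun j _ => ?_
  rw [Matrix.diag, LinearMap.toMatrix_apply, LinearMap.mulLeftRight_apply, Matrix.stdBasis_eq_single]
  show ((Matrix.stdBasis ℂ (Fin n) (Fin n)).repr (E A * Matrix.single i j 1 * E B)) (i, j) = _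
  have e : ∀ (M : Matrix (Fin n) (Fin n) ℂ), (Matrix.stdBasis ℂ (Fin n) (Fin n)).repr M (i, j) = M i j := fun M => by
    simp [Matrix.stdBasis]
  rw [e, Matrix.mul_apply, Finset.sum_eq_single j, Matrix.mul_single_apply_same, mul_one]
  · rfl
  · intro b _ hb
    rw [Matrix.mul_single_apply_of_ne _ _ _ _ _ hb, zero_mul]
  · simp

variable {G : Type u} [Group G] [Finite G] {n : ℕ} (ρ : Representation ℂ G (Fin n → ℂ))

/-- Conjugation by a group element. -/
noncomputable def adRep (g : G) : Module.End ℂ (Fin n → ℂ) ≃ₐ[ℂ] Module.End ℂ (Fin n → ℂ) :=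
  (LinearEquiv.ofLinear (ρ g) (ρ g⁻¹)
    (by rw [← Module.End.mul_eq_comp, ← map_mul, mul_inv_cancel, map_one]; rfl)
    (by rw [← Module.End.mul_eq_comp, ← map_mul, inv_mul_cancel, map_one]; rfl)).conjAlgEquiv ℂ

theorem adRep_apply (g : G) (Y : Module.End ℂ (Fin n → ℂ)) : adRep ρ g Y = ρ g * Y * ρ g⁻¹ := rfl

theorem adRep_rho (g x : G) : adRep ρ g (ρ x) = ρ (g * x * g⁻¹) := by
  rw [adRep_apply, map_mul, map_mul]

theorem trace_adRep (g : G) :
    LinearMap.trace ℂ (Module.End ℂ (Fin n → ℂ)) (adRep ρ g).toLinearMap = ρ.character g * conj (ρ.character g) := by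
  rw [← char_inv ρ g]
  exact (congrArg _ (LinearMap.ext fun Y => rfl)).trans (trace_mulLeftRight (ρ g) (ρ g⁻¹))

/-- An automorphism is determined by its values on an irreducible group. -/
theorem algEquiv_unique [ρ.IsIrreducible] {α α' : Module.End ℂ (Fin n → ℂ) ≃ₐ[ℂ] Module.End ℂ (Fin n → ℂ)}
    (h : ∀ g, α (ρ g) = α' (ρ g)) : α = α' := by
  obtain ⟨T, hT⟩ := (α.trans α'.symm).eq_linearEquivConjAlgEquiv
  obtain ⟨c, hc⟩ := schur_scalar ρ T.toLinearMap fun g => by
    have h1 : α'.symm (α (ρ g)) = T.conjAlgEquiv ℂ (ρ g) := DFunLike.congr_fun hT (ρ g)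
    rw [h, AlgEquiv.symm_apply_apply] at h1
    conv_rhs => rw [h1]
    refine LinearMap.ext fun v => ?_
    simp [LinearEquiv.conjAlgEquiv_apply, Module.End.mul_apply]
  refine AlgEquiv.ext fun Y => α'.symm.injective ?_
  rw [AlgEquiv.symm_apply_apply, ← AlgEquiv.trans_apply, hT]
  refine LinearMap.ext fun v => ?_
  have h2 : ∀ w, T w = c • w := fun w => LinearMap.congr_fun hc w
  simp only [LinearEquiv.conjAlgEquiv_apply, LinearMap.comp_apply, LinearEquiv.coe_coe]
  conv_rhs => rw [← T.apply_symm_apply v]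
  rw [h2, h2, map_smul]

/-- The character cut out by a commuting idempotent. -/
theorem isCharacter_proj {P : Module.End ℂ (Fin n → ℂ)} (hP : P * P = P) (hc : ∀ g, ρ g * P = P * ρ g) :
    IsCharacter G fun g => LinearMap.trace ℂ (Fin n → ℂ) (ρ g * P) := by
  let W : Subrepresentation ρ := ⟨LinearMap.range P, by
    rintro g _ ⟨v, rfl⟩
    exact ⟨ρ g v, (LinearMap.congr_fun (hc g) v).symm⟩⟩
  have h : W.toRepresentation.character = fun g => LinearMap.trace ℂ (Fin n → ℂ) (ρ g * P) := by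
    funext g
    have hmem : ∀ v, (ρ g * P) v ∈ W.toSubmodule := fun v => by rw [hc]; exact ⟨ρ g v, rfl⟩
    rw [← LinearMap.trace_restrict_eq_of_forall_mem W.toSubmodule (ρ g * P) hmem]
    show LinearMap.trace ℂ _ (W.toRepresentation g) = _
    congr 1
    ext ⟨v, w, rfl⟩ : 1
    apply Subtype.ext
    show ρ g (P w) = ρ g (P (P w))
    rw [← Module.End.mul_apply P P, hP]
  exact h ▸ isCharacter_character W.toRepresentation

/-- Two characters whose difference has norm one. -/
theorem exists_odd_constituent [Fintype G] {P Q : G → ℂ} (hP : IsCharacter G P) (hQ : IsCharacter G Q)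
    (h : classInner (P - Q) (P - Q) = 1) :
    ∃ η : IrrCharacter G, (∀ ξ : IrrCharacter G, ∀ m : ℕ, classInner (P + Q) (ξ : G → ℂ) = (m : ℂ) → (Odd m ↔ ξ = η)) ∧
      ∃ ε : ℂ, ε * conj ε = 1 ∧ P - Q = ε • (η : G → ℂ) := by
  classical
  have := Fintype.ofFinite (IrrCharacter G)
  choose a ha using classInner_char_irr_nat hP
  choose b hb using classInner_char_irr_nat hQ
  let d : IrrCharacter G → ℤ := fun ξ => (a ξ : ℤ) - b ξ
  have hd : ∀ ξ : IrrCharacter G, classInner (P - Q) (ξ : G → ℂ) = (d ξ : ℂ) := fun ξ => by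
    rw [classInner_sub_left, ha, hb]
    push_cast [d]
    ring
  have hcl : IsClassFunction G (P - Q) := fun g k => by
    simp only [Pi.sub_apply, isClassFunction_of_isCharacter hP g k, isClassFunction_of_isCharacter hQ g k]
  have hex := classFun_expand hcl
  have hsum : ∑ ξ : IrrCharacter G, d ξ ^ 2 = 1 := by
    have h1 : classInner (P - Q) (P - Q) = ((∑ ξ : IrrCharacter G, d ξ ^ 2 : ℤ) : ℂ) := by
      conv_lhs => arg 2; rw [hex]
      rw [classInner_sum_right, Int.cast_sum]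
      exact Finset.sum_congr rfl fun ξ _ => by rw [classInner_smul_right, hd, map_intCast, Int.cast_pow, pow_two]
    rw [h] at h1
    exact_mod_cast h1.symm
  obtain ⟨η, -, hη⟩ := Finset.exists_ne_zero_of_sum_ne_zero (hsum.symm ▸ one_ne_zero :
    ∑ ξ : IrrCharacter G, d ξ ^ 2 ≠ 0)
  have hsplit := Finset.add_sum_erase Finset.univ (fun ξ => d ξ ^ 2) (Finset.mem_univ η)
  have hη1 : 1 ≤ d η ^ 2 := by
    have := sq_nonneg (d η)
    omega
  have hrest : ∑ ξ ∈ Finset.univ.erase η, d ξ ^ 2 = 0 := by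
    have := Finset.sum_nonneg (s := Finset.univ.erase η) fun ξ _ => sq_nonneg (d ξ)
    beta_reduce at hsplit
    omega
  have hz : ∀ ξ, ξ ≠ η → d ξ = 0 := fun ξ hξ => sq_eq_zero_iff.mp
    ((Finset.sum_eq_zero_iff_of_nonneg fun x _ => sq_nonneg (d x)).mp hrest ξ
      (Finset.mem_erase.mpr ⟨hξ, Finset.mem_univ _⟩))
  have hsq : d η ^ 2 = 1 := by
    simp only [hrest, add_zero, hsum] at hsplit
    exact hsplit
  refine ⟨η, fun ξ m hm => ?_, (d η : ℂ), by rw [map_intCast, ← pow_two, ← Int.cast_pow, hsq, Int.cast_one], ?_⟩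
  · rw [classInner_add_left, ha, hb, ← Nat.cast_add, Nat.cast_inj] at hm
    constructor
    · intro hodd
      by_contra hne
      have h1 : (a ξ : ℤ) - b ξ = 0 := hz ξ hne
      rw [← hm, show a ξ = b ξ by omega, ← two_mul] at hodd
      exact (Nat.not_even_iff_odd.mpr hodd) (even_two_mul _)
    · rintro rfl
      rcases sq_eq_one_iff.mp hsq with h1 | h1 <;> simp only [d] at h1 <;> rw [Nat.odd_iff] <;> omega
  · conv_lhs => rw [hex]
    rw [Finset.sum_eq_single η (fun ξ _ hξ => by rw [hd, hz ξ hξ, Int.cast_zero, zero_smul]) (by simp), hd]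

end CfsgLib.Char.OddSection
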