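import Cfsg.Agent.Lib.Char.OddSection.Lifts
import Cfsg.Agent.Lib.Char.InvariantAbove
import Mathlib.LinearAlgebra.Trace

/-!
# The canonical involution of an abelian section and the trace identity
-/

set_option autoImplicit false
set_option linter.unusedSectionVars false

namespace CfsgLib.Char.OddSection.Twist

universe u v

variable {D : Type u} [Group D] [Finite D] {M : Type v} [Ring M] [Algebra ℂ M] [Nontrivial M]
  (t : Twist D M) [Fintype t.S]

/-- The radical of the pairing. -/
def rad : Subgroup t.X where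
  carrier := {x | ∀ y, t.om x y = 1}
  one_mem' := t.om_one_left
  mul_mem' := fun ha hb y => by rw [om_mul_left, ha y, hb y, one_mul]
  inv_mem' := fun {a} ha y => by
    have h := t.om_mul_left a⁻¹ a y
    rw [inv_mul_cancel, om_one_left, ha y, mul_one] at h
    exact h.symm

theorem mem_rad {x : t.X} : x ∈ t.rad ↔ ∀ y, t.om x y = 1 := Iff.rfl

theorem om_rad_right {x : t.X} (hx : x ∈ t.rad) (y : t.X) : t.om y x = 1 := by
  have h := t.om_swap x y
  rwa [(t.mem_rad.mp hx) y, one_mul] at h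

theorem be_rad_left {x : t.X} (hx : x ∈ t.rad) (y : t.X) : t.be x y = 1 := by
  rw [be, (t.mem_rad.mp hx) y, one_pow]

theorem cx_rad (d : D) {x : t.X} (hx : x ∈ t.rad) : t.cx d x ∈ t.rad := fun y => by
  rw [← t.cx_cx_inv d y, om_cx]
  exact hx _

/-- The action of `d` on the radical. -/
noncomputable def cr (d : D) : t.rad →* t.rad :=
  MonoidHom.mk' (fun z => ⟨t.cx d z, t.cx_rad d z.2⟩) fun a b => Subtype.ext (by simp)

theorem cr_mul (d e : D) (z : t.rad) : t.cr (d * e) z = t.cr d (t.cr e z) :=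
  Subtype.ext (t.cx_mul d e z)

theorem cr_one (z : t.rad) : t.cr 1 z = z := Subtype.ext (t.cx_one z)

/-- The action of `d` on linear characters of the radical. -/
noncomputable def sig (d : D) (f : t.rad →* ℂˣ) : t.rad →* ℂˣ := f.comp (t.cr d⁻¹)

theorem sig_mul (d e : D) (f : t.rad →* ℂˣ) : t.sig (d * e) f = t.sig d (t.sig e f) :=
  MonoidHom.ext fun z => by
    show f (t.cr (d * e)⁻¹ z) = f (t.cr e⁻¹ (t.cr d⁻¹ z))
    rw [mul_inv_rev, cr_mul]

theorem sig_one (f : t.rad →* ℂˣ) : t.sig 1 f = f :=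
  MonoidHom.ext fun z => by
    show f (t.cr 1⁻¹ z) = f z
    rw [inv_one, cr_one]

theorem el_rad_mul (z z' : t.rad) : t.el (z : t.X) * t.el z' = t.el ((z * z' : t.rad) : t.X) := by
  rw [el_mul, t.be_rad_left z.2, Units.val_one, one_smul, Subgroup.coe_mul]

theorem ad_el_rad (x : t.X) (z : t.rad) : t.ad x (t.el (z : t.X)) = t.el z := by
  rw [ad_el, t.om_rad_right z.2, Units.val_one, one_smul]

variable [Fintype t.rad]

/-- The projector attached to a linear character of the radical. -/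
noncomputable def proj (f : t.rad →* ℂˣ) : M :=
  (Nat.card t.rad : ℂ)⁻¹ • ∑ z : t.rad, ((f z)⁻¹ : ℂˣ).val • t.el (z : t.X)

theorem el_proj (f : t.rad →* ℂˣ) (z : t.rad) : t.el (z : t.X) * t.proj f = (f z : ℂ) • t.proj f := by
  simp only [proj, mul_smul_comm, Finset.mul_sum, el_rad_mul, Finset.smul_sum, smul_smul]
  refine Fintype.sum_equiv (Equiv.mulLeft z) _ _ fun w => ?_
  simp only [Equiv.coe_mulLeft, map_mul, mul_inv, Units.val_mul]
  congr 1
  rw [← mul_assoc, ← mul_assoc]
  simp [mul_comm, mul_left_comm]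

theorem proj_comm (f : t.rad →* ℂˣ) (z : t.rad) : t.proj f * t.el (z : t.X) = t.el (z : t.X) * t.proj f := by
  simp only [proj, mul_smul_comm, smul_mul_assoc, Finset.mul_sum, Finset.sum_mul, el_rad_mul, mul_comm z]

theorem proj_mul_self (f : t.rad →* ℂˣ) : t.proj f * t.proj f = t.proj f := by
  conv_lhs => arg 1; rw [proj]
  simp only [smul_mul_assoc, Finset.sum_mul, el_proj, smul_smul, Units.inv_mul, one_smul, Finset.sum_const,
    Finset.card_univ]
  rw [← Nat.cast_smul_eq_nsmul ℂ, smul_smul, Nat.card_eq_fintype_card,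
    inv_mul_cancel₀ (by exact_mod_cast Fintype.card_ne_zero), one_smul]

theorem proj_mul_ne {f g : t.rad →* ℂˣ} (h : f ≠ g) : t.proj f * t.proj g = 0 := by
  obtain ⟨z, hz⟩ : ∃ z, f z ≠ g z := not_forall.mp fun h' => h (MonoidHom.ext h')
  have h1 : ((f z : ℂ) - g z) • (t.proj f * t.proj g) = 0 := by
    rw [sub_smul, ← smul_mul_assoc, ← el_proj, ← proj_comm, mul_assoc, el_proj, mul_smul_comm, sub_self]
  exact (smul_eq_zero.mp h1).resolve_left (sub_ne_zero.mpr fun e => hz (Units.ext e))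

theorem act_proj {d : D} (hd : d ∈ t.S ∨ d ∈ t.C) (f : t.rad →* ℂˣ) :
    t.act d (t.proj f) = t.proj (t.sig d f) := by
  simp only [proj, map_smul, map_sum, t.act_el hd]
  congr 1
  refine Fintype.sum_bijective (t.cr d) ?_ _ _ fun z => ?_
  · exact Function.bijective_iff_has_inverse.mpr ⟨t.cr d⁻¹,
      fun z => by rw [← cr_mul, inv_mul_cancel, cr_one], fun z => by rw [← cr_mul, mul_inv_cancel, cr_one]⟩
  · show ((f z)⁻¹ : ℂˣ).val • t.el (t.cx d z) = ((f (t.cr d⁻¹ (t.cr d z)))⁻¹ : ℂˣ).val • _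
    rw [← cr_mul, inv_mul_cancel, cr_one]
    rfl

theorem act_proj_K {k : D} (hk : k ∈ t.K) (f : t.rad →* ℂˣ) : t.act k (t.proj f) = t.proj f := by
  simp only [proj, map_smul, map_sum]
  refine congrArg _ (Finset.sum_congr rfl fun z _ => ?_)
  rw [← t.ad_mk ⟨k, hk⟩, ad_el_rad]

theorem sum_proj [Fintype (CfsgLib.Char.linearOver (⊥ : Subgroup t.rad))] :
    ∑ f : CfsgLib.Char.linearOver (⊥ : Subgroup t.rad), t.proj (f : t.rad →* ℂˣ) = 1 := by
  classical
  have hab : ∀ a b : t.rad, a * b * a⁻¹ * b⁻¹ ∈ (⊥ : Subgroup t.rad) := fun a b => by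
    rw [Subgroup.mem_bot, mul_comm a b, mul_inv_cancel_right, mul_inv_cancel]
  simp only [proj, ← Finset.smul_sum]
  rw [Finset.sum_comm]
  simp only [← Finset.sum_smul, ← map_inv, CfsgLib.Char.sum_linearOver _ hab, inv_mem_iff, Subgroup.mem_bot,
    ite_smul, zero_smul, Finset.sum_ite_eq', Finset.mem_univ, if_true, Subgroup.index_bot]
  rw [smul_smul, inv_mul_cancel₀ (by exact_mod_cast Nat.card_pos.ne'), one_smul, OneMemClass.coe_one, el_one]

/-- The radical acts trivially. -/
theorem el_rad_eq_one (z : t.rad) : t.el (z : t.X) = 1 := by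
  classical
  have hfin : Finite (CfsgLib.Char.linearOver (⊥ : Subgroup t.rad)) := Nat.finite_of_card_ne_zero (by
    rw [CfsgLib.Char.card_linearOver _ fun a b => by
      rw [Subgroup.mem_bot, mul_comm a b, mul_inv_cancel_right, mul_inv_cancel], Subgroup.index_bot]
    exact Nat.card_pos.ne')
  have := Fintype.ofFinite (CfsgLib.Char.linearOver (⊥ : Subgroup t.rad))
  have := Fintype.ofFinite t.C
  obtain ⟨f₀, hf₀⟩ : ∃ f : t.rad →* ℂˣ, t.proj f ≠ 0 := by
    by_contra h
    push Not at h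
    have h1 := t.sum_proj
    simp only [h, Finset.sum_const_zero] at h1
    exact zero_ne_one h1
  set Q := ∑ c : t.C, t.proj (t.sig c f₀) with hQ
  obtain ⟨r, hr⟩ : ∃ r : ℂ, Q = r • (1 : M) := by
    refine t.irr Q (fun k hk => ?_) fun c hc => ?_
    · rw [hQ, map_sum]
      exact Finset.sum_congr rfl fun c _ => t.act_proj_K hk _
    · rw [hQ, map_sum]
      refine Fintype.sum_equiv (Equiv.mulLeft (⟨c, hc⟩ : t.C)) _ _ fun e => ?_
      rw [t.act_proj (Or.inr hc), ← sig_mul]
      rfl
  have horb : ∀ f, t.proj f ≠ 0 → ∃ c ∈ t.C, t.sig c f₀ = f := by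
    intro f hf
    by_contra hno
    push Not at hno
    have hz : ∀ g, t.proj g * Q = r • t.proj g := fun g => by rw [hr, mul_smul_comm, mul_one]
    have h0 : r • t.proj f = 0 := by
      rw [← hz, hQ, Finset.mul_sum]
      exact Finset.sum_eq_zero fun c _ => t.proj_mul_ne fun e => hno c c.2 e.symm
    have hr0 : r = 0 := (smul_eq_zero.mp h0).resolve_right hf
    have h1 : (Nat.card {c : t.C // t.sig c f₀ = f₀} : ℂ) • t.proj f₀ = 0 := by
      rw [← zero_smul ℂ (t.proj f₀), ← hr0, ← hz, hQ, Finset.mul_sum, Nat.cast_smul_eq_nsmul,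
        Nat.card_eq_fintype_card, Fintype.card_subtype, ← Finset.sum_const, Finset.sum_filter]
      refine Finset.sum_congr rfl fun c _ => ?_
      split_ifs with e
      · rw [e, proj_mul_self]
      · rw [t.proj_mul_ne (Ne.symm e)]
    haveI : Nonempty {c : t.C // t.sig c f₀ = f₀} := ⟨⟨1, t.sig_one f₀⟩⟩
    exact (smul_eq_zero.mp h1).elim (by exact_mod_cast Nat.card_pos.ne') hf₀
  have hSfix : ∀ f, t.proj f ≠ 0 → ∀ s ∈ t.S, t.sig s f = f := by
    intro f hf s hs
    have hne : t.proj (t.sig s f) ≠ 0 := by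
      rw [← t.act_proj (Or.inl hs)]
      exact fun e => hf ((t.act s).injective (by rw [e, map_zero]))
    obtain ⟨c, hc, hcf⟩ := horb f hf
    obtain ⟨c', hc', hcf'⟩ := horb _ hne
    set g := c' * c⁻¹ with hg
    have hgC : g ∈ t.C := mul_mem hc' (inv_mem hc)
    have hsg : t.sig g f = t.sig s f := by
      rw [← hcf', ← hcf, ← sig_mul, hg, inv_mul_cancel_right]
    have hj : ∀ j : ℕ, t.sig (s ^ j) f = t.sig (g ^ j) f := by
      intro j
      induction j with
      | zero => rw [pow_zero, pow_zero]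
      | succ j ih =>
        rw [pow_succ, sig_mul, ← hsg, ← sig_mul,
          show s ^ j * g = g * s ^ j from t.comm _ (pow_mem hs j) g hgC, sig_mul, ih, ← sig_mul, ← pow_succ']
    have hfix : t.sig (g ^ Nat.card t.S) f = f := by
      rw [← hj, show s ^ Nat.card t.S = 1 from congrArg Subtype.val (pow_card_eq_one' (x := (⟨s, hs⟩ : t.S))),
        sig_one]
    have hfix' : ∀ i : ℕ, t.sig ((g ^ Nat.card t.S) ^ i) f = f := by
      intro i
      induction i with
      | zero => rw [pow_zero, sig_one]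
      | succ i ih => rw [pow_succ, sig_mul, hfix, ih]
    have hgcard : g ^ Nat.card t.C = 1 := congrArg Subtype.val (pow_card_eq_one' (x := (⟨g, hgC⟩ : t.C)))
    rw [← hsg]
    rcases (Nat.one_le_iff_ne_zero.mpr Nat.card_pos.ne' : 1 ≤ Nat.card t.C).eq_or_lt with h1 | h1
    · rw [← h1, pow_one] at hgcard
      rw [hgcard, sig_one]
    · obtain ⟨a, -, ha⟩ := Nat.exists_mul_mod_eq_one_of_coprime t.copC.symm h1
      have h2 := hfix' a
      rwa [← pow_mul, pow_eq_pow_mod _ hgcard, ha, pow_one] at h2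
  have htriv : ∀ f, t.proj f ≠ 0 → f = 1 := by
    intro f hf
    refine MonoidHom.ext fun w => ?_
    have hprod : ∏ s : t.S, t.cr s w = 1 := by
      refine Subtype.ext ?_
      rw [OneMemClass.coe_one, SubmonoidClass.coe_finsetProd]
      refine t.eq_one_of_fixed fun s hs => ?_
      rw [map_prod]
      refine Fintype.prod_equiv (Equiv.mulLeft (⟨s, hs⟩ : t.S)) _ _ fun e => ?_
      exact (t.cx_mul s e w).symm
    have h1 : f w ^ Nat.card t.S = 1 := by
      have h2 := congrArg f hprod
      rw [map_prod, map_one] at h2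
      rw [← h2, Nat.card_eq_fintype_card, ← Finset.card_univ, ← Finset.prod_const]
      refine Finset.prod_congr rfl fun s _ => ?_
      have h3 := DFunLike.congr_fun (hSfix f hf _ (inv_mem s.2)) w
      change f (t.cr ((s : D)⁻¹)⁻¹ w) = f w at h3
      rw [inv_inv] at h3
      exact h3.symm
    have h2 : f w ^ Nat.card t.X = 1 := by
      rw [← map_pow, show w ^ Nat.card t.X = 1 from Subtype.ext (pow_card_eq_one' (x := (w : t.X))), map_one]
    have h3 := pow_gcd_eq_one.mpr ⟨h2, h1⟩
    rw [show (Nat.card t.X).gcd (Nat.card t.S) = 1 from t.copN, pow_one] at h3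
    rw [h3, MonoidHom.one_apply]
  have hone : t.proj 1 = 1 := by
    rw [← t.sum_proj]
    symm
    refine (Finset.sum_eq_single_of_mem (1 : CfsgLib.Char.linearOver (⊥ : Subgroup t.rad)) (Finset.mem_univ _)
      fun f _ hne => ?_)
    by_contra hp
    exact hne (Subtype.ext (htriv _ hp))
  have h := t.el_proj 1 z
  rw [hone, mul_one, MonoidHom.one_apply, Units.val_one, one_smul] at h
  exact h

omit [Fintype t.rad] in
theorem sum_be [Fintype t.X] (x : t.X) [Decidable (x ∈ t.rad)] :
    ∑ y : t.X, (t.be y x : ℂ) = if x ∈ t.rad then (Nat.card t.X : ℂ) else 0 := by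
  split_ifs with hx
  · rw [Finset.sum_congr rfl (g := fun _ => (1 : ℂ)) fun y _ => by
      rw [be, t.om_rad_right hx, one_pow, Units.val_one], Finset.sum_const, Finset.card_univ,
      ← Nat.card_eq_fintype_card, nsmul_one]
  · obtain ⟨y, hy⟩ : ∃ y, t.be y x ≠ 1 := by
      by_contra h
      push Not at h
      refine hx fun y => ?_
      have h2 := t.om_swap x y
      rwa [← t.be_sq y x, h y, one_mul, mul_one] at h2
    by_contra hne
    have h1 : (t.be y x : ℂ) * ∑ z : t.X, (t.be z x : ℂ) = ∑ z : t.X, (t.be z x : ℂ) := by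
      rw [Finset.mul_sum]
      exact Fintype.sum_equiv (Equiv.mulLeft y) _ _ fun z => by
        rw [← Units.val_mul, ← be_mul_left]; rfl
    exact hy (Units.ext ((mul_eq_right₀ hne).mp h1))

omit [Fintype t.rad] in
/-- The involution inverting the section. -/
theorem exists_involution : ∃ T : M, T * T = 1 ∧ (∀ d, d ∈ t.S ∨ d ∈ t.C → t.act d T = T) ∧
    (∀ x : t.X, T * t.el x = t.el x⁻¹ * T) ∧ ∀ Y : M, (∀ x, t.ad x Y = Y) → T * Y = Y * T := by
  classical
  have := Fintype.ofFinite t.X
  have := Fintype.ofFinite t.rad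
  set T₀ := ∑ x : t.X, t.el x with hT₀
  have hmove : ∀ y : t.X, T₀ * t.el y = t.el y⁻¹ * T₀ := by
    intro y
    rw [hT₀, Finset.sum_mul, Finset.mul_sum]
    refine Fintype.sum_equiv (Equiv.mulRight (y * y)) _ _ fun x => ?_
    rw [el_mul, el_mul, Equiv.coe_mulRight, be_inv_left, be_mul_left, be_mul_left, be_self, mul_one, mul_one]
    congr 2
    simp only []
    rw [mul_comm x (y * y), ← mul_assoc, inv_mul_cancel_left, mul_comm]
  have hsq : T₀ * T₀ = ((Nat.card t.X * Nat.card t.rad : ℕ) : ℂ) • (1 : M) := by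
    have e : T₀ * T₀ = ∑ z : t.X, (∑ x : t.X, (t.be x z : ℂ)) • t.el z := by
      rw [hT₀, Finset.sum_mul]
      simp only [Finset.mul_sum, el_mul, Finset.sum_smul]
      rw [Finset.sum_comm (f := fun z x => (t.be x z : ℂ) • t.el z)]
      refine Finset.sum_congr rfl fun x _ => Fintype.sum_equiv (Equiv.mulLeft x) _ _ fun y => ?_
      simp only [Equiv.coe_mulLeft, be_mul_right, be_self, one_mul]
    rw [e]
    simp only [sum_be, ite_smul, zero_smul]
    rw [← Finset.sum_filter, Finset.sum_subtype (p := fun z => z ∈ t.rad) _ (fun z => by simp),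
      Finset.sum_congr rfl (g := fun _ => (Nat.card t.X : ℂ) • (1 : M)) fun z _ => by rw [t.el_rad_eq_one z],
      Finset.sum_const, Finset.card_univ, ← Nat.cast_smul_eq_nsmul ℂ, smul_smul, Nat.cast_mul, mul_comm,
      Nat.card_eq_fintype_card (α := t.rad)]
  obtain ⟨r, hr⟩ := IsAlgClosed.exists_eq_mul_self ((Nat.card t.X * Nat.card t.rad : ℕ) : ℂ)
  have hr0 : r ≠ 0 := by
    intro h0
    rw [h0, mul_zero] at hr
    exact (Nat.mul_pos Nat.card_pos Nat.card_pos).ne' (Nat.cast_eq_zero.mp hr)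
  refine ⟨r⁻¹ • T₀, ?_, fun d hd => ?_, fun x => ?_, fun Y hY => ?_⟩
  · rw [smul_mul_smul_comm, hsq, hr, smul_smul]
    field_simp
    exact one_smul _ _
  · rw [map_smul, hT₀, map_sum]
    refine congrArg _ (Fintype.sum_bijective (t.cx d) ?_ _ _ fun x => t.act_el hd x)
    exact Function.bijective_iff_has_inverse.mpr ⟨t.cx d⁻¹, t.cx_inv_cx d, t.cx_cx_inv d⟩
  · rw [smul_mul_assoc, hmove, mul_smul_comm]
  · rw [smul_mul_assoc, mul_smul_comm, hT₀, Finset.sum_mul, Finset.mul_sum]
    exact congrArg _ (Finset.sum_congr rfl fun x _ => t.el_commute hY x)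

omit [Fintype t.rad] in
/-- The trace identity for the canonical involution. -/
theorem exists_twist [FiniteDimensional ℂ M] [Fintype t.K] : ∃ T : M, T * T = 1 ∧
    (∀ c ∈ t.C, t.act c T = T) ∧
    ∀ c ∈ t.C, (Nat.card t.K : ℂ) *
        LinearMap.trace ℂ M ((t.act c).toLinearMap ∘ₗ LinearMap.mulLeftRight ℂ (T, T)) =
      ∑ k : t.K, LinearMap.trace ℂ M (t.act (c * k)).toLinearMap := by
  classical
  have := Fintype.ofFinite t.X
  have := Fintype.ofFinite (t.L.subgroupOf t.K)
  obtain ⟨T, hT2, hTd, hTel, hTc⟩ := t.exists_involution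
  refine ⟨T, hT2, fun c hc => hTd c (Or.inr hc), fun c hc => ?_⟩
  set J := LinearMap.mulLeftRight ℂ (T, T) with hJ
  let A : t.X → Module.End ℂ M := fun x => (t.ad x).toLinearMap
  have hA : ∀ x y, A (x * y) = A x * A y := fun x y => LinearMap.ext fun Y => t.ad_mul_apply x y Y
  have hA1 : A 1 = 1 := LinearMap.ext fun Y => by simp [A]
  set F : Module.End ℂ M := (t.act c).toLinearMap ∘ₗ J with hF
  have hJA : ∀ x, J * A x = A x⁻¹ * J := by
    intro x
    refine LinearMap.ext fun Y => ?_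
    simp only [Module.End.mul_apply, hJ, LinearMap.mulLeftRight_apply, A, AlgEquiv.toLinearMap_apply]
    have h1 := (t.can x).cl Y
    have h2 := (t.can x⁻¹).cl (T * Y * T)
    rw [t.can_x] at h1 h2
    have e1 : (((t.can x).w⁻¹ : Mˣ) : M) = t.el x⁻¹ := by
      rw [Twist.el, ← t.inv_w, show (t.can x)⁻¹ = t.can x⁻¹ from t.can_unique
        (by rw [inv_x, can_x]) (by rw [map_inv, nr_can, inv_one])]
    have e2 : (((t.can x⁻¹).w⁻¹ : Mˣ) : M) = t.el x := by
      rw [Twist.el, ← t.inv_w, show (t.can x⁻¹)⁻¹ = t.can x from t.can_unique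
        (by rw [inv_x, can_x, inv_inv]) (by rw [map_inv, nr_can, inv_one])]
    rw [h1, h2, e1, e2]
    change T * (t.el x * Y * t.el x⁻¹) * T = t.el x⁻¹ * (T * Y * T) * t.el x
    have h3 : t.el x⁻¹ * T = T * t.el x := (hTel x).symm
    have h4 : T * t.el x⁻¹ = t.el x * T := by rw [hTel, inv_inv]
    calc T * (t.el x * Y * t.el x⁻¹) * T = T * t.el x * Y * (t.el x⁻¹ * T) := by simp [mul_assoc]
      _ = t.el x⁻¹ * T * Y * (T * t.el x) := by rw [hTel, h3]
      _ = _ := by simp [mul_assoc]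
  have hcA : ∀ x, (t.act c).toLinearMap * A x = A (t.cx c x) * (t.act c).toLinearMap := fun x =>
    LinearMap.ext fun Y => by
      simp only [Module.End.mul_apply, A, AlgEquiv.toLinearMap_apply]
      rw [ad_cx, act_inv_act]
  have hFA : ∀ x, F * A x = A (t.cx c x)⁻¹ * F := by
    intro x
    rw [hF, ← Module.End.mul_eq_comp, mul_assoc, hJA, ← mul_assoc, hcA, mul_assoc, map_inv]
  have hμinj : Function.Injective fun x : t.X => x * t.cx c x := by
    intro a b h
    simp only at h
    have hd : a / b = (t.cx c (a / b))⁻¹ := by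
      rw [map_div, inv_div, div_eq_div_iff_mul_eq_mul, mul_comm (t.cx c b)]
      exact h
    set e := a / b
    have hce : t.cx c e = e⁻¹ := (inv_eq_iff_eq_inv.mpr hd).symm
    have h2 : t.cx (c * c) e = e := by rw [cx_mul, hce, map_inv, hce, inv_inv]
    have h2n : ∀ n : ℕ, t.cx ((c * c) ^ n) e = e := fun n => by
      induction n with
      | zero => rw [pow_zero, cx_one]
      | succ n ih => rw [pow_succ, cx_mul, h2, ih]
    obtain ⟨k, hk⟩ := t.oddC
    have hcc : (c * c) ^ (k + 1) = c := by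
      rw [← pow_two, ← pow_mul, show 2 * (k + 1) = Nat.card t.C + 1 by omega, pow_succ,
        show c ^ Nat.card t.C = 1 from congrArg Subtype.val (pow_card_eq_one' (x := (⟨c, hc⟩ : t.C))), one_mul]
    have h3 := h2n (k + 1)
    rw [hcc, hce] at h3
    obtain ⟨m, hm⟩ := t.oddX
    have he : e = 1 := by
      have h4 : e * e = 1 := by nth_rewrite 2 [← h3]; exact mul_inv_cancel e
      have h5 : e ^ Nat.card t.X = 1 := pow_card_eq_one'
      rwa [hm, pow_succ, pow_mul, pow_two, h4, one_pow, one_mul] at h5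
    exact div_eq_one.mp he
  have hsum : (Nat.card t.X : ℂ) * LinearMap.trace ℂ M F =
      ∑ x : t.X, LinearMap.trace ℂ M ((t.act c).toLinearMap * A x) := by
    have e1 : ∀ x : t.X, LinearMap.trace ℂ M (F * A (x * t.cx c x)) = LinearMap.trace ℂ M F := fun x => by
      rw [hA, ← mul_assoc, LinearMap.trace_mul_comm, hFA, ← mul_assoc, ← hA, mul_inv_cancel, hA1, one_mul]
    have e2 : J * ∑ x : t.X, A x = ∑ x : t.X, A x := by
      refine LinearMap.ext fun Y => ?_
      have hfix : ∀ y, t.ad y ((∑ x : t.X, A x) Y) = (∑ x : t.X, A x) Y := fun y => by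
        rw [LinearMap.sum_apply, map_sum]
        exact Fintype.sum_equiv (Equiv.mulLeft y) _ _ fun x => (t.ad_mul_apply y x Y).symm
      rw [Module.End.mul_apply, hJ, LinearMap.mulLeftRight_apply, hTc _ hfix, mul_assoc, hT2, mul_one]
    calc (Nat.card t.X : ℂ) * LinearMap.trace ℂ M F
        = ∑ x : t.X, LinearMap.trace ℂ M (F * A (x * t.cx c x)) := by
          rw [Finset.sum_congr rfl fun x _ => e1 x, Finset.sum_const, Finset.card_univ,
            ← Nat.card_eq_fintype_card, nsmul_eq_mul]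
      _ = ∑ x : t.X, LinearMap.trace ℂ M (F * A x) :=
          Fintype.sum_bijective _ (Finite.injective_iff_bijective.mp hμinj) _ _ fun x => rfl
      _ = LinearMap.trace ℂ M ((t.act c).toLinearMap * (J * ∑ x : t.X, A x)) := by
          rw [← map_sum, ← Finset.mul_sum, ← mul_assoc]; rfl
      _ = _ := by rw [e2, Finset.mul_sum, map_sum]
  have hfib : ∑ k : t.K, LinearMap.trace ℂ M (t.act (c * k)).toLinearMap =
      (Nat.card (t.L.subgroupOf t.K) : ℂ) * ∑ x : t.X, LinearMap.trace ℂ M ((t.act c).toLinearMap * A x) := by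
    have h1 : ∀ k : t.K, LinearMap.trace ℂ M (t.act (c * k)).toLinearMap =
        LinearMap.trace ℂ M ((t.act c).toLinearMap * A (k : t.X)) := fun k => by
      congr 1
      exact LinearMap.ext fun Y => t.act_mul_apply c k Y
    simp only [h1]
    rw [← Fintype.sum_equiv (Subgroup.groupEquivQuotientProdSubgroup (s := t.L.subgroupOf t.K)).symm
      (fun p => LinearMap.trace ℂ M ((t.act c).toLinearMap * A p.1)) _ fun p => by
        congr 3
        exact (congrArg Prod.fst (Equiv.apply_symm_apply Subgroup.groupEquivQuotientProdSubgroup p)).symm,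
      Fintype.sum_prod_type, Finset.mul_sum]
    simp [Nat.card_eq_fintype_card]
  rw [hfib, ← hsum, ← mul_assoc, ← Nat.cast_mul, mul_comm (Nat.card (t.L.subgroupOf t.K)),
    ← Subgroup.card_eq_card_quotient_mul_card_subgroup]

end CfsgLib.Char.OddSection.Twist
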