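import Cfsg.Agent.Lib.Char.OddSection.Ctx
import Cfsg.Agent.Lib.Char.OddSection.Involution
import Cfsg.Agent.Lib.Char.OddSection.Commutant
import Cfsg.Agent.Lib.Char.OddSection.Endo

/-!
# The odd constituent over an invariant character
-/

set_option autoImplicit false
set_option linter.unusedSectionVars false

namespace CfsgLib.Char.OddSection

open scoped ComplexConjugate
open Representation Module Cfsg CfsgLib.Char

universe u

attribute [local instance] instFintypeSub instFintypeSub₂ instFintypeIrr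

variable {Γ : Type u} [Group Γ] [Finite Γ] {G S C K L H : Subgroup Γ}

variable {n : ℕ}

local notation "EV" => Module.End ℂ (Fin n → ℂ)

theorem exists_adHom {D : Subgroup Γ} (hD : NormBy D G) (ρ : Representation ℂ G (Fin n → ℂ)) [ρ.IsIrreducible]
    (hinv : IsInv D G ρ.character) :
    ∃ α : D →* (EV ≃ₐ[ℂ] EV), ∀ (d : D) (x y : G), (y : Γ) = d * x * (d : Γ)⁻¹ → α d (ρ x) = ρ y := by
  let cj : D → (G →* G) := fun d =>
    MonoidHom.mk' (fun x => ⟨d * x * (d : Γ)⁻¹, hD d d.2 x x.2⟩) fun a b => Subtype.ext (by simp [mul_assoc])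
  have hex : ∀ d : D, ∃ α : EV ≃ₐ[ℂ] EV, ∀ x, α (ρ x) = ρ (cj d x) := by
    intro d
    obtain ⟨Q⟩ := nonempty_equiv_of_character_eq ρ (ρ.comp (cj d))
      (funext fun x => (hinv d d.2 x (cj d x) rfl).symm)
    refine ⟨Q.toLinearEquiv.conjAlgEquiv ℂ, fun x => LinearMap.ext fun v => ?_⟩
    obtain ⟨w, rfl⟩ := Q.toLinearEquiv.surjective v
    simp only [LinearEquiv.conjAlgEquiv_apply, LinearMap.comp_apply, LinearEquiv.coe_coe,
      LinearEquiv.symm_apply_apply]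
    exact LinearMap.congr_fun (Q.toIntertwiningMap.isIntertwining' x) w
  choose α hα using hex
  refine ⟨MonoidHom.mk' α fun a b => algEquiv_unique ρ fun x => ?_, fun d x y e => ?_⟩
  · rw [hα, AlgEquiv.mul_apply, hα, hα]
    exact congrArg _ (Subtype.ext (by simp [cj, mul_assoc]))
  · show α d (ρ x) = ρ y
    rw [hα]
    exact congrArg _ (Subtype.ext e.symm)

/-- The commutant of the normal subgroup. -/
abbrev comm (hLG : L ≤ G) (ρ : Representation ℂ G (Fin n → ℂ)) : Subalgebra ℂ EV :=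
  Subalgebra.centralizer ℂ (Set.range fun l : L => (ρ.comp (Subgroup.inclusion hLG) l : EV))

theorem mem_comm (hLG : L ≤ G) (ρ : Representation ℂ G (Fin n → ℂ)) {Y : EV} :
    Y ∈ comm hLG ρ ↔ ∀ l : L, ρ ⟨l, hLG l.2⟩ * Y = Y * ρ ⟨l, hLG l.2⟩ := by
  rw [Subalgebra.mem_centralizer_iff, Set.forall_mem_range]
  exact Iff.rfl

theorem sum_adRep_mem (hLG : L ≤ G) (ρ : Representation ℂ G (Fin n → ℂ)) (J : Subgroup Γ) (hLJ : L ≤ J)
    (hJG : J ≤ G) (Y : EV) : (∑ j : J, (adRep ρ ⟨j, hJG j.2⟩).toLinearMap) Y ∈ comm hLG ρ := by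
  rw [mem_comm]
  intro l
  simp only [LinearMap.sum_apply, AlgEquiv.toLinearMap_apply, adRep_apply, Finset.mul_sum, Finset.sum_mul]
  refine Fintype.sum_equiv (Equiv.mulLeft (⟨l, hLJ l.2⟩ : J)) _ _ fun j => ?_
  simp only [Equiv.coe_mulLeft, Subgroup.coe_mul]
  rw [show (⟨(l : Γ) * j, hJG (mul_mem (hLJ l.2) j.2)⟩ : G) = ⟨l, hLG l.2⟩ * ⟨j, hJG j.2⟩ from rfl, map_mul,
    mul_inv_rev, map_mul]
  simp only [mul_assoc]
  rw [← map_mul ρ (⟨l, hLG l.2⟩ : G)⁻¹, inv_mul_cancel, map_one, mul_one]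

/-- The trace of a map following an average over a subgroup above `L`. -/
theorem trace_average (hLG : L ≤ G) (ρ : Representation ℂ G (Fin n → ℂ)) (J : Subgroup Γ) (hLJ : L ≤ J)
    (hJG : J ≤ G) (F₀ : Module.End ℂ EV) (F : Module.End ℂ (comm hLG ρ))
    (hF : ∀ Y, (F Y : EV) = F₀ Y) (a : J → (comm hLG ρ ≃ₐ[ℂ] comm hLG ρ))
    (ha : ∀ j Y, (a j Y : EV) = adRep ρ ⟨j, hJG j.2⟩ Y) :
    LinearMap.trace ℂ EV (F₀ * ∑ j : J, (adRep ρ ⟨j, hJG j.2⟩).toLinearMap) =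
      ∑ j : J, LinearMap.trace ℂ (comm hLG ρ) (F * (a j).toLinearMap) := by
  set p : Submodule ℂ EV := (comm hLG ρ).toSubmodule with hp
  have hmem : ∀ Y, (F₀ * ∑ j : J, (adRep ρ ⟨j, hJG j.2⟩).toLinearMap) Y ∈ p := fun Y => by
    rw [Module.End.mul_apply]
    have h1 := sum_adRep_mem hLG ρ J hLJ hJG Y
    have h2 := hF ⟨_, h1⟩
    simp only at h2
    rw [← h2]
    exact (F ⟨_, h1⟩).2
  rw [← LinearMap.trace_restrict_eq_of_forall_mem p _ hmem, ← map_sum]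
  congr 1
  refine LinearMap.ext fun Y => Subtype.ext ?_
  show (F₀ * ∑ j : J, (adRep ρ ⟨j, hJG j.2⟩).toLinearMap) (Y : EV) = _
  simp only [Module.End.mul_apply, LinearMap.sum_apply, map_sum]
  rw [AddSubmonoidClass.coe_finsetSum]
  refine Finset.sum_congr rfl fun j _ => ?_
  show F₀ (adRep ρ ⟨j, hJG j.2⟩ (Y : EV)) = (F (a j Y) : EV)
  rw [hF, ha]

theorem sum_norm_eq (c : Ctx G S C K L H) (f : G → ℂ) :
    ∑ k : K, ∑ h : H, f (⟨k, c.hKG k.2⟩ * ⟨h, c.hHG h.2⟩) = (Nat.card L : ℂ) * ∑ g : G, f g := by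
  classical
  choose k₀ hk₀ x₀ hx₀ hdec using fun g : G => c.decG g.2
  let Φ : G × L → K × H := fun p =>
    (⟨k₀ p.1 * p.2, mul_mem (hk₀ p.1) (c.hLK p.2.2)⟩, ⟨(p.2 : Γ)⁻¹ * x₀ p.1, mul_mem (c.hLH (inv_mem p.2.2)) (c.hCH (hx₀ p.1))⟩)
  have hval : ∀ p, ((Φ p).1 : Γ) * ((Φ p).2 : Γ) = p.1 := fun p => by
    simp only [Φ]
    rw [mul_assoc, mul_inv_cancel_left, ← hdec]
  have hbij : Function.Bijective Φ := by
    refine ⟨fun p q e => ?_, fun q => ?_⟩
    · have h1 : p.1 = q.1 := Subtype.ext ((hval p).symm.trans (e ▸ hval q))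
      have h2 := congrArg (fun r : K × H => (r.1 : Γ)) e
      simp only [Φ, h1] at h2
      exact Prod.ext h1 (Subtype.ext (mul_left_cancel h2))
    · set g : G := ⟨q.1, c.hKG q.1.2⟩ * ⟨q.2, c.hHG q.2.2⟩ with hg
      have hge : (q.1 : Γ) * q.2 = k₀ g * x₀ g := hdec g
      have hl : (k₀ g)⁻¹ * (q.1 : Γ) ∈ L := by
        refine c.inter (mul_mem (inv_mem (hk₀ g)) q.1.2) ?_
        rw [show (k₀ g)⁻¹ * (q.1 : Γ) = (k₀ g)⁻¹ * ((q.1 : Γ) * q.2) * (q.2 : Γ)⁻¹ by group, hge, inv_mul_cancel_left]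
        exact mul_mem (c.hCH (hx₀ g)) (inv_mem q.2.2)
      refine ⟨(g, ⟨_, hl⟩), Prod.ext (Subtype.ext (mul_inv_cancel_left _ _)) (Subtype.ext ?_)⟩
      show ((k₀ g)⁻¹ * (q.1 : Γ))⁻¹ * x₀ g = q.2
      rw [mul_inv_rev, inv_inv, mul_assoc, ← hge, inv_mul_cancel_left]
  rw [← Fintype.sum_prod_type (f := fun q : K × H => f (⟨q.1, c.hKG q.1.2⟩ * ⟨q.2, c.hHG q.2.2⟩))]
  rw [← Fintype.sum_bijective Φ hbij (fun p => f p.1) _ fun p => congrArg f (Subtype.ext (hval p).symm),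
    Fintype.sum_prod_type, Finset.mul_sum]
  refine Finset.sum_congr rfl fun g _ => ?_
  simp [Nat.card_eq_fintype_card]

theorem sum_norm_eq' (hLK : L ≤ K) (f : K → ℂ) :
    ∑ k : K, ∑ l : L, f (k * ⟨l, hLK l.2⟩) = (Nat.card L : ℂ) * ∑ k : K, f k := by
  rw [Finset.sum_comm, Finset.sum_congr rfl (g := fun (_ : L) => ∑ k : K, f k) fun (l : L) _ =>
    Fintype.sum_equiv (Equiv.mulRight (⟨l, hLK l.2⟩ : K)) (fun k => f (k * ⟨l, hLK l.2⟩)) f fun k => rfl,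
    Finset.sum_const, Finset.card_univ, ← Nat.card_eq_fintype_card, nsmul_eq_mul]

/-- The unique constituent of odd multiplicity. -/
theorem odd_constituent (c : Ctx G S C K L H) (χ : IrrCharacter G) (hχ : IsInv S G (χ : G → ℂ))
    (φ : IrrCharacter L) (hφG : IsInv G L (φ : L → ℂ)) (hover : mlt c.hLG χ φ ≠ 0) :
    ∃ η : IrrCharacter H, (∀ ξ : IrrCharacter H, Odd (mlt c.hHG χ ξ) ↔ ξ = η) ∧
      classInner (res c.hLH (η : H → ℂ)) (res c.hLH (η : H → ℂ)) =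
        classInner (res c.hKG (χ : G → ℂ)) (res c.hKG (χ : G → ℂ)) := by
  classical
  have := Fintype.ofFinite Γ
  obtain ⟨n, ρ, hρ, hρχ⟩ := χ.2
  haveI := hρ
  obtain ⟨d, σ, hσ, hσφ⟩ := φ.2
  haveI := hσ
  set D := G ⊔ S with hDdef
  have hDG : NormBy D G := (normBy_self G).sup c.hnorm
  have hDL : NormBy D L := c.hLn.sup c.hLS
  have hDK : NormBy D K := c.hKn.sup c.hKS
  have hDinv : IsInv D G ρ.character := by
    rw [hρχ]
    exact IsInv.of_sup (normBy_self G) c.hnorm (isInv_self χ) hχ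
  obtain ⟨α, hα⟩ := exists_adHom hDG ρ hDinv
  have hαG : ∀ (g : G) (hg : (g : Γ) ∈ D), α ⟨g, hg⟩ = adRep ρ g := fun g hg =>
    algEquiv_unique ρ fun x => by
      rw [hα ⟨g, hg⟩ x (g * x * g⁻¹) rfl, adRep_rho]
  set M := comm c.hLG ρ with hMdef
  have hmap : ∀ (e : D) (Y : Module.End ℂ (Fin n → ℂ)), Y ∈ M → α e Y ∈ M := by
    intro e Y hY
    rw [hMdef, mem_comm] at hY ⊢
    intro l
    have hm : (e : Γ)⁻¹ * l * e ∈ L := by simpa using hDL _ (inv_mem e.2) l l.2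
    have h1 : α e (ρ ⟨_, c.hLG hm⟩) = ρ ⟨l, c.hLG l.2⟩ := hα e _ _ (by simp [mul_assoc])
    rw [← h1, ← map_mul, ← map_mul, hY ⟨_, hm⟩]
  let act : D →* (M ≃ₐ[ℂ] M) := MonoidHom.mk'
    (fun e => AlgEquiv.ofAlgHom
      (((α e).toAlgHom.comp M.val).codRestrict M fun Y => hmap e Y Y.2)
      (((α e⁻¹).toAlgHom.comp M.val).codRestrict M fun Y => hmap e⁻¹ Y Y.2)
      (AlgHom.ext fun Y => Subtype.ext (by
        show α e (α e⁻¹ (Y : Module.End ℂ (Fin n → ℂ))) = Y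
        rw [← AlgEquiv.mul_apply, ← map_mul, mul_inv_cancel, map_one, AlgEquiv.one_apply]))
      (AlgHom.ext fun Y => Subtype.ext (by
        show α e⁻¹ (α e (Y : Module.End ℂ (Fin n → ℂ))) = Y
        rw [← AlgEquiv.mul_apply, ← map_mul, inv_mul_cancel, map_one, AlgEquiv.one_apply])))
    fun a b => AlgEquiv.ext fun Y => Subtype.ext (by
      show α (a * b) (Y : Module.End ℂ (Fin n → ℂ)) = α a (α b Y)
      rw [map_mul, AlgEquiv.mul_apply])
  have hact : ∀ (e : D) (Y : M), ((act e Y : M) : Module.End ℂ (Fin n → ℂ)) = α e Y := fun e Y => rfl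
  have hGD : G ≤ D := le_sup_left
  have hSD : S ≤ D := le_sup_right
  have hactG : ∀ (g : G) (Y : M), (act ⟨g, hGD g.2⟩ Y : Module.End ℂ (Fin n → ℂ)) = ρ g * Y * ρ g⁻¹ := fun g Y => by
    rw [hact, hαG, adRep_apply]
  -- the commutant is a full endomorphism algebra
  have hres : res c.hLG (χ : G → ℂ) = (mlt c.hLG χ φ : ℂ) • (φ : L → ℂ) := res_eq_smul c.hLG c.hLn hφG hover
  obtain ⟨Ψ⟩ := exists_commutant_equiv (e := mlt c.hLG χ φ) σ (ρ.comp (Subgroup.inclusion c.hLG)) (funext fun l => by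
    have h1 := congrFun hres l
    simp only [res, Pi.smul_apply, smul_eq_mul] at h1
    rw [hσφ, ← h1, ← hρχ]
    rfl)
  change M ≃ₐ[ℂ] _ at Ψ
  haveI : Nonempty (Fin (mlt c.hLG χ φ)) := ⟨⟨0, Nat.pos_of_ne_zero hover⟩⟩
  haveI : Nontrivial M := Ψ.toEquiv.nontrivial
  have hcardeq : ∀ {A : Subgroup Γ}, A ≤ D → Nat.card (A.subgroupOf D) = Nat.card A := fun h =>
    Nat.card_congr (Subgroup.subgroupOfEquivOfLe h).toEquiv
  let t : Twist D M :=
    { act := act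
      K := K.subgroupOf D
      L := L.subgroupOf D
      S := S.subgroupOf D
      C := C.subgroupOf D
      hKn := hDK.normal
      hLn := hDL.normal
      hLK := fun x hx => c.hLK hx
      hab := fun a ha b hb => c.hab a ha b hb
      hL := fun l hl => AlgEquiv.ext fun Y => Subtype.ext (by
        have hl' : (l : Γ) ∈ L := hl
        have h1 := (mem_comm c.hLG ρ).mp Y.2 ⟨l, hl'⟩
        rw [show l = (⟨(⟨l, c.hLG hl'⟩ : G), hGD (c.hLG hl')⟩ : D) from rfl, hactG, h1, mul_assoc, ← map_mul,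
          mul_inv_cancel, map_one, mul_one, AlgEquiv.one_apply])
      inner := fun k _ => (inner_of_equiv (M := M) (e := mlt c.hLG χ φ) Ψ (act k) : _)
      center := central_of_equiv Ψ
      irr := fun Y hK hC => by
        obtain ⟨r, hr⟩ := schur_scalar ρ (Y : Module.End ℂ (Fin n → ℂ)) fun g => by
          obtain ⟨k, hk, x, hx, hg⟩ := c.decG g.2
          have h1 : ∀ (y : Γ) (hy : y ∈ G), act ⟨y, hGD hy⟩ Y = Y →
              ρ ⟨y, hy⟩ * (Y : Module.End ℂ (Fin n → ℂ)) = Y * ρ ⟨y, hy⟩ := fun y hy hfix => by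
            have h2 : (Y : Module.End ℂ (Fin n → ℂ)) = ρ ⟨y, hy⟩ * Y * ρ (⟨y, hy⟩ : G)⁻¹ := by
              rw [← hactG ⟨y, hy⟩, hfix]
            conv_rhs => rw [h2, mul_assoc, ← map_mul, inv_mul_cancel, map_one, mul_one]
          have h3 := h1 k (c.hKG hk) (hK ⟨k, hGD (c.hKG hk)⟩ hk)
          have h4 := h1 x (c.hCG hx) (hC ⟨x, hGD (c.hCG hx)⟩ hx)
          rw [show g = ⟨k, c.hKG hk⟩ * ⟨x, c.hCG hx⟩ from Subtype.ext hg, map_mul, mul_assoc, h4, ← mul_assoc,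
            ← mul_assoc, ← h3]
        exact ⟨r, Subtype.ext hr⟩
      comm := fun s hs x hx => Subtype.ext (c.comm hx hs)
      fix := fun k hk h => c.fix k hk fun s hs => h ⟨s, hSD hs⟩ hs
      copN := by
        rw [Subgroup.relIndex_subgroupOf (c.hKG.trans hGD), hcardeq hSD]
        exact c.cop.coprime_dvd_left ((Subgroup.relIndex_dvd_card L K).trans (Subgroup.card_dvd_of_le c.hKG))
      copC := by
        rw [hcardeq (c.hCG.trans hGD), hcardeq hSD]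
        exact c.cop.coprime_dvd_left (Subgroup.card_dvd_of_le c.hCG)
      oddN := by
        rw [Subgroup.relIndex_subgroupOf (c.hKG.trans hGD)]
        exact c.odd_relIndex c.hKG
      oddC := by
        rw [hcardeq (c.hCG.trans hGD)]
        exact c.odd.of_dvd_nat (Subgroup.card_dvd_of_le c.hCG) }
  have := Fintype.ofFinite t.S
  have := Fintype.ofFinite t.K
  obtain ⟨T, hT2, hTC, htr⟩ := t.exists_twist
  set T' : Module.End ℂ (Fin n → ℂ) := (T : Module.End ℂ (Fin n → ℂ)) with hT'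
  have hT2' : T' * T' = 1 := congrArg Subtype.val hT2
  have hTH : ∀ h : H, ρ ⟨h, c.hHG h.2⟩ * T' = T' * ρ ⟨h, c.hHG h.2⟩ := by
    intro h
    obtain ⟨l, hl, x, hx, he⟩ := c.decH h.2
    have h1 := (mem_comm c.hLG ρ).mp T.2 ⟨l, hl⟩
    have h2 : ρ ⟨x, c.hCG hx⟩ * T' * ρ (⟨x, c.hCG hx⟩ : G)⁻¹ = T' := by
      rw [hT', ← hactG]
      exact congrArg Subtype.val (hTC ⟨x, hGD (c.hCG hx)⟩ hx)
    have h3 : ρ ⟨x, c.hCG hx⟩ * T' = T' * ρ ⟨x, c.hCG hx⟩ := by
      conv_rhs => rw [← h2, mul_assoc, ← map_mul, inv_mul_cancel, map_one, mul_one]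
    rw [show (⟨h, c.hHG h.2⟩ : G) = ⟨l, c.hLG hl⟩ * ⟨x, c.hCG hx⟩ from Subtype.ext he, map_mul, mul_assoc, h3,
      ← mul_assoc, h1, mul_assoc]
  set Δ : H → ℂ := fun h => LinearMap.trace ℂ (Fin n → ℂ) (T' * ρ ⟨h, c.hHG h.2⟩) with hΔdef
  set ρH : Representation ℂ H (Fin n → ℂ) := ρ.comp (Subgroup.inclusion c.hHG) with hρH
  set Pp : Module.End ℂ (Fin n → ℂ) := (2⁻¹ : ℂ) • (1 + T') with hPp
  set Pm : Module.End ℂ (Fin n → ℂ) := (2⁻¹ : ℂ) • (1 - T') with hPm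
  have hcommP : ∀ h : H, ρH h * Pp = Pp * ρH h ∧ ρH h * Pm = Pm * ρH h := fun h => by
    have e : ρH h = ρ ⟨h, c.hHG h.2⟩ := rfl
    constructor
    · rw [hPp, e, mul_smul_comm, smul_mul_assoc, mul_add, add_mul, mul_one, one_mul, hTH]
    · rw [hPm, e, mul_smul_comm, smul_mul_assoc, mul_sub, sub_mul, mul_one, one_mul, hTH]
  have hidem : Pp * Pp = Pp ∧ Pm * Pm = Pm := by
    constructor
    · rw [hPp, smul_mul_smul_comm, add_mul, one_mul, mul_add, mul_one, hT2',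
        show (1 : Module.End ℂ (Fin n → ℂ)) + T' + (T' + 1) = (2 : ℂ) • (1 + T') by rw [two_smul]; abel, smul_smul]
      norm_num
    · rw [hPm, smul_mul_smul_comm, sub_mul, one_mul, mul_sub, mul_one, hT2',
        show (1 : Module.End ℂ (Fin n → ℂ)) - T' - (T' - 1) = (2 : ℂ) • (1 - T') by rw [two_smul]; abel, smul_smul]
      norm_num
  set P : H → ℂ := fun h => LinearMap.trace ℂ (Fin n → ℂ) (ρH h * Pp) with hPdef
  set Q : H → ℂ := fun h => LinearMap.trace ℂ (Fin n → ℂ) (ρH h * Pm) with hQdef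
  have hP : IsCharacter H P := isCharacter_proj ρH hidem.1 fun h => (hcommP h).1
  have hQ : IsCharacter H Q := isCharacter_proj ρH hidem.2 fun h => (hcommP h).2
  have hPQ : P + Q = res c.hHG (χ : G → ℂ) := funext fun h => by
    simp only [hPdef, hQdef, Pi.add_apply]
    rw [← map_add, ← mul_add, hPp, hPm, ← smul_add, show (1 : Module.End ℂ (Fin n → ℂ)) + T' + (1 - T') = (2 : ℂ) • 1 by
      rw [two_smul]; abel, smul_smul, inv_mul_cancel₀ two_ne_zero, one_smul, mul_one, ← hρχ]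
    rfl
  have hPQ' : P - Q = Δ := funext fun h => by
    simp only [hPdef, hQdef, Pi.sub_apply]
    rw [← map_sub, ← mul_sub, hPp, hPm, show (2⁻¹ : ℂ) • (1 + T') - (2⁻¹ : ℂ) • (1 - T') = T' by module,
      LinearMap.trace_mul_comm]
    rfl
  have hΔconj : ∀ h : H, conj (Δ h) = Δ h⁻¹ := fun h => by
    rw [← hPQ', Pi.sub_apply, Pi.sub_apply, map_sub, isCharacter_inv hP, isCharacter_inv hQ]
  -- the norm identity
  have hnorm : ∀ (J : Subgroup Γ) (hLJ : L ≤ J) (hJH : J ≤ H),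
      (Nat.card K : ℂ) * ∑ j : J, Δ ⟨j, hJH j.2⟩ * conj (Δ ⟨j, hJH j.2⟩) =
        ∑ k : K, ∑ j : J, (χ : G → ℂ) (⟨k, c.hKG k.2⟩ * ⟨j, c.hHG (hJH j.2)⟩) *
          conj ((χ : G → ℂ) (⟨k, c.hKG k.2⟩ * ⟨j, c.hHG (hJH j.2)⟩)) := by
    intro J hLJ hJH
    have hJG : J ≤ G := hJH.trans c.hHG
    let a : J → (M ≃ₐ[ℂ] M) := fun j => act ⟨j, hGD (hJG j.2)⟩
    have ha : ∀ j Y, ((a j Y : M) : Module.End ℂ (Fin n → ℂ)) = adRep ρ ⟨j, hJG j.2⟩ (Y : Module.End ℂ (Fin n → ℂ)) :=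
      fun j Y => hactG ⟨j, hJG j.2⟩ Y
    let JT : Module.End ℂ M := LinearMap.mulLeftRight ℂ (T, T)
    have h1 : ∑ j : J, Δ ⟨j, hJH j.2⟩ * conj (Δ ⟨j, hJH j.2⟩) =
        ∑ j : J, LinearMap.trace ℂ M (JT * (a j).toLinearMap) := by
      rw [← trace_average c.hLG ρ J hLJ hJG (LinearMap.mulLeftRight ℂ (T', T')) JT (fun Y => rfl) a ha,
        Finset.mul_sum, map_sum]
      refine Finset.sum_congr rfl fun j _ => ?_
      have e : LinearMap.mulLeftRight ℂ (T', T') * (adRep ρ ⟨j, hJG j.2⟩).toLinearMap =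
          LinearMap.mulLeftRight ℂ (T' * ρ ⟨j, hJG j.2⟩, ρ (⟨j, hJG j.2⟩ : G)⁻¹ * T') := by
        refine LinearMap.ext fun Y => ?_
        simp only [Module.End.mul_apply, AlgEquiv.toLinearMap_apply, adRep_apply, LinearMap.mulLeftRight_apply,
          mul_assoc]
      rw [e, trace_mulLeftRight, hΔconj, LinearMap.trace_mul_comm ℂ (ρ _) T']
      rfl
    rw [h1, Finset.mul_sum]
    have h2 : ∀ j : J, (Nat.card K : ℂ) * LinearMap.trace ℂ M (JT * (a j).toLinearMap) =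
        ∑ k : K, LinearMap.trace ℂ M ((act ⟨k, hGD (c.hKG k.2)⟩).toLinearMap * (a j).toLinearMap) := by
      intro j
      obtain ⟨l, hl, x, hx, he⟩ := c.decH (hJH j.2)
      have haj : a j = act ⟨x, hGD (c.hCG hx)⟩ := by
        show act ⟨j, _⟩ = _
        rw [show (⟨(j : Γ), hGD (hJG j.2)⟩ : D) = ⟨l, hGD (c.hLG hl)⟩ * ⟨x, hGD (c.hCG hx)⟩ from Subtype.ext he,
          map_mul, show act ⟨l, hGD (c.hLG hl)⟩ = 1 from t.hL _ hl, one_mul]
      rw [haj, LinearMap.trace_mul_comm]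
      have h3 := htr ⟨x, hGD (c.hCG hx)⟩ hx
      rw [show Nat.card t.K = Nat.card K from hcardeq (c.hKG.trans hGD)] at h3
      refine h3.trans ?_
      refine Fintype.sum_equiv (Subgroup.subgroupOfEquivOfLe (c.hKG.trans hGD)).toEquiv _ _ fun k => ?_
      rw [LinearMap.trace_mul_comm]
      congr 1
      exact LinearMap.ext fun Y => t.act_mul_apply _ _ Y
    rw [Finset.sum_congr rfl fun j _ => h2 j, Finset.sum_comm]
    refine Finset.sum_congr rfl fun k _ => ?_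
    rw [← trace_average c.hLG ρ J hLJ hJG (adRep ρ ⟨k, c.hKG k.2⟩).toLinearMap _
      (fun Y => hactG ⟨k, c.hKG k.2⟩ Y) a ha, Finset.mul_sum, map_sum]
    refine Finset.sum_congr rfl fun j _ => ?_
    have e : (adRep ρ ⟨k, c.hKG k.2⟩).toLinearMap * (adRep ρ ⟨j, hJG j.2⟩).toLinearMap =
        (adRep ρ (⟨k, c.hKG k.2⟩ * ⟨j, hJG j.2⟩)).toLinearMap := by
      refine LinearMap.ext fun Y => ?_
      simp only [Module.End.mul_apply, AlgEquiv.toLinearMap_apply, adRep_apply]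
      rw [mul_inv_rev, map_mul, map_mul]
      simp only [mul_assoc]
    rw [e, trace_adRep, hρχ]
  have hK0 : (Nat.card K : ℂ) ≠ 0 := by exact_mod_cast Nat.card_pos.ne'
  have hL0 : (Nat.card L : ℂ) ≠ 0 := by exact_mod_cast Nat.card_pos.ne'
  have hN1 : classInner Δ Δ = 1 := by
    have h1 := hnorm H c.hLH le_rfl
    rw [sum_norm_eq c fun g => (χ : G → ℂ) g * conj ((χ : G → ℂ) g)] at h1
    have h2 := classInner_irr_self χ
    rw [classInner, inv_mul_eq_one₀ (by exact_mod_cast Nat.card_pos.ne')] at h2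
    rw [← h2] at h1
    have h3 : (Nat.card L : ℂ) * Nat.card G = Nat.card K * Nat.card H := by
      have e1 := Subgroup.card_mul_index (K.subgroupOf G)
      have e2 := Subgroup.card_mul_index (L.subgroupOf H)
      rw [Nat.card_congr (Subgroup.subgroupOfEquivOfLe c.hKG).toEquiv] at e1
      rw [Nat.card_congr (Subgroup.subgroupOfEquivOfLe c.hLH).toEquiv] at e2
      have e3 : (L.subgroupOf H).index = (K.subgroupOf G).index := c.relIndex_eq
      rw [← Nat.cast_mul, ← Nat.cast_mul, ← e1, ← e2, e3]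
      congr 1
      ring
    rw [h3] at h1
    rw [classInner, mul_left_cancel₀ hK0 h1, inv_mul_cancel₀ (by exact_mod_cast Nat.card_pos.ne')]
  obtain ⟨η, hη, ε, hε, hεη⟩ := exists_odd_constituent hP hQ (by rw [hPQ']; exact hN1)
  refine ⟨η, fun ξ => hη ξ _ (by rw [hPQ, classInner_res]), ?_⟩
  have h1 := hnorm L le_rfl c.hLH
  rw [show (∑ k : K, ∑ j : L, (χ : G → ℂ) (⟨k, c.hKG k.2⟩ * ⟨j, c.hHG (c.hLH j.2)⟩) *
      conj ((χ : G → ℂ) (⟨k, c.hKG k.2⟩ * ⟨j, c.hHG (c.hLH j.2)⟩))) =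
    (Nat.card L : ℂ) * ∑ k : K, res c.hKG (χ : G → ℂ) k * conj (res c.hKG (χ : G → ℂ) k) from
    sum_norm_eq' c.hLK fun k => res c.hKG (χ : G → ℂ) k * conj (res c.hKG (χ : G → ℂ) k)] at h1
  have h4 : ∀ j : L, Δ ⟨j, c.hLH j.2⟩ * conj (Δ ⟨j, c.hLH j.2⟩) =
      res c.hLH (η : H → ℂ) j * conj (res c.hLH (η : H → ℂ) j) := fun j => by
    rw [← hPQ', hεη]
    simp only [Pi.smul_apply, smul_eq_mul, map_mul, res]
    linear_combination ((η : H → ℂ) ⟨j, c.hLH j.2⟩ * conj ((η : H → ℂ) ⟨j, c.hLH j.2⟩)) * hε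
  rw [Finset.sum_congr rfl fun j _ => h4 j] at h1
  simp only [classInner]
  field_simp
  linear_combination h1

end CfsgLib.Char.OddSection
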