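import Cfsg.Agent.Lib.Char.OddSection.Basic

/-!
# The setting of an abelian section under a coprime operator group
-/

set_option autoImplicit false
set_option linter.unusedSectionVars false

namespace CfsgLib.Char.OddSection

open Cfsg CfsgLib.Char

universe u

variable {Γ : Type u} [Group Γ] [Finite Γ]

/-- The setting. -/
structure Ctx (G S C K L H : Subgroup Γ) : Prop where
  hnorm : NormBy S G
  cop : (Nat.card G).Coprime (Nat.card S)
  odd : Odd (Nat.card G)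
  solv : Group.IsSolvable G
  hC : C = G ⊓ Subgroup.centralizer (S : Set Γ)
  hLK : L ≤ K
  hKG : K ≤ G
  hKn : NormBy G K
  hLn : NormBy G L
  hKS : NormBy S K
  hLS : NormBy S L
  hab : ∀ a ∈ K, ∀ b ∈ K, a * b * a⁻¹ * b⁻¹ ∈ L
  hG : K ⊔ C = G
  hH : H = L ⊔ C
  fix : ∀ k ∈ K, (∀ s ∈ S, s * k * s⁻¹ * k⁻¹ ∈ L) → k ∈ L

/-- The elements normalising `A` and fixing `f`. -/
def invSub (A : Subgroup Γ) (f : A → ℂ) : Subgroup Γ where
  carrier := {d | d ∈ Subgroup.normalizer (A : Set Γ) ∧ ∀ a a' : A, (a' : Γ) = d * a * d⁻¹ → f a' = f a}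
  one_mem' := ⟨one_mem _, fun a a' e => congrArg f (Subtype.ext (by simpa using e))⟩
  mul_mem' := fun {x y} hx hy => ⟨mul_mem hx.1 hy.1, fun a a' e => by
    have hm : y * a * y⁻¹ ∈ A := (Subgroup.mem_normalizer_iff.mp hy.1 a).mp a.2
    rw [hx.2 ⟨_, hm⟩ a' (by rw [e]; group), hy.2 a ⟨_, hm⟩ rfl]⟩
  inv_mem' := fun {x} hx => ⟨inv_mem hx.1, fun a a' e => (hx.2 a' a (by rw [e]; group)).symm⟩

theorem NormBy.mono {B B' A : Subgroup Γ} (h : NormBy B A) (hB : B' ≤ B) : NormBy B' A := fun b hb => h b (hB hb)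

theorem NormBy.sup {B B' A : Subgroup Γ} (h : NormBy B A) (h' : NormBy B' A) : NormBy (B ⊔ B') A :=
  fun b hb a ha => (Subgroup.mem_normalizer_iff.mp ((sup_le h.le_normalizer h'.le_normalizer) hb) a).mp ha

theorem IsInv.of_sup {B B' A : Subgroup Γ} {f : A → ℂ} (hB : NormBy B A) (hB' : NormBy B' A)
    (h : IsInv B A f) (h' : IsInv B' A f) : IsInv (B ⊔ B') A f := by
  have hle : B ⊔ B' ≤ invSub A f := sup_le (fun b hb => ⟨hB.le_normalizer hb, h b hb⟩)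
    fun b hb => ⟨hB'.le_normalizer hb, h' b hb⟩
  exact fun s hs => (hle hs).2

theorem IsInv.mono {B B' A : Subgroup Γ} {f : A → ℂ} (h : IsInv B A f) (hB : B' ≤ B) : IsInv B' A f :=
  fun s hs => h s (hB hs)

theorem exists_mul_of_sup {A B : Subgroup Γ} (h : NormBy B A) {g : Γ} (hg : g ∈ A ⊔ B) :
    ∃ a ∈ A, ∃ b ∈ B, g = a * b := by
  have h1 : g ∈ ((A ⊔ B : Subgroup Γ) : Set Γ) := hg
  rw [Subgroup.coe_mul_of_right_le_normalizer_left A B h.le_normalizer] at h1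
  obtain ⟨a, ha, b, hb, e⟩ := h1
  exact ⟨a, ha, b, hb, e.symm⟩

namespace Ctx

variable {G S C K L H : Subgroup Γ} (c : Ctx G S C K L H)
include c

theorem hCG : C ≤ G := c.hC ▸ inf_le_left

theorem hLG : L ≤ G := c.hLK.trans c.hKG

theorem hLH : L ≤ H := c.hH ▸ le_sup_left

theorem hCH : C ≤ H := c.hH ▸ le_sup_right

theorem hHG : H ≤ G := c.hH ▸ sup_le c.hLG c.hCG

theorem comm {x : Γ} (hx : x ∈ C) {s : Γ} (hs : s ∈ S) : s * x = x * s := by
  rw [c.hC] at hx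
  exact Subgroup.mem_centralizer_iff.mp hx.2 s hs

theorem decG {g : Γ} (hg : g ∈ G) : ∃ k ∈ K, ∃ x ∈ C, g = k * x :=
  exists_mul_of_sup (c.hKn.mono c.hCG) (c.hG.symm ▸ hg)

theorem decH {h : Γ} (hh : h ∈ H) : ∃ l ∈ L, ∃ x ∈ C, h = l * x :=
  exists_mul_of_sup (c.hLn.mono c.hCG) (c.hH ▸ hh)

theorem inter {x : Γ} (hk : x ∈ K) (hh : x ∈ H) : x ∈ L := by
  obtain ⟨l, hl, y, hy, rfl⟩ := c.decH hh
  have hyK : y ∈ K := by
    have := mul_mem (inv_mem (c.hLK hl)) hk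
    rwa [inv_mul_cancel_left] at this
  refine mul_mem hl (c.fix y hyK fun s hs => ?_)
  rw [c.comm hy hs, mul_inv_cancel_right, mul_inv_cancel]
  exact one_mem _

theorem normS_H : NormBy S H := by
  intro s hs h hh
  obtain ⟨l, hl, x, hx, rfl⟩ := c.decH hh
  rw [show s * (l * x) * s⁻¹ = (s * l * s⁻¹) * ((s * x) * s⁻¹) by group, c.comm hx hs, mul_inv_cancel_right]
  exact mul_mem (c.hLH (c.hLS s hs l hl)) (c.hCH hx)

theorem centG {g : Γ} (hg : g ∈ G) {s : Γ} (hs : s ∈ S) : s * g * s⁻¹ * g⁻¹ ∈ K := by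
  obtain ⟨k, hk, x, hx, rfl⟩ := c.decG hg
  rw [show s * (k * x) * s⁻¹ * (k * x)⁻¹ = (s * k * s⁻¹) * ((s * x) * s⁻¹ * x⁻¹) * k⁻¹ by group,
    c.comm hx hs, mul_inv_cancel_right, mul_inv_cancel, mul_one]
  exact mul_mem (c.hKS s hs k hk) (inv_mem hk)

theorem centH {h : Γ} (hh : h ∈ H) {s : Γ} (hs : s ∈ S) : s * h * s⁻¹ * h⁻¹ ∈ L := by
  obtain ⟨l, hl, x, hx, rfl⟩ := c.decH hh
  rw [show s * (l * x) * s⁻¹ * (l * x)⁻¹ = (s * l * s⁻¹) * ((s * x) * s⁻¹ * x⁻¹) * l⁻¹ by group,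
    c.comm hx hs, mul_inv_cancel_right, mul_inv_cancel, mul_one]
  exact mul_mem (c.hLS s hs l hl) (inv_mem hl)

theorem copH : (Nat.card H).Coprime (Nat.card S) :=
  c.cop.coprime_dvd_left (Subgroup.card_dvd_of_le c.hHG)

theorem odd_relIndex {A B : Subgroup Γ} (hB : B ≤ G) : Odd (A.relIndex B) :=
  (c.odd.of_dvd_nat (Subgroup.card_dvd_of_le hB)).of_dvd_nat
    ⟨Nat.card (A.subgroupOf B), by rw [mul_comm]; exact (Subgroup.card_mul_index _).symm⟩

theorem relIndex_eq : L.relIndex H = K.relIndex G := by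
  classical
  refine Nat.card_congr (Equiv.ofBijective (fun q : H ⧸ L.subgroupOf H => Quotient.liftOn' q
    (fun h => ((⟨(h : Γ), c.hHG h.2⟩ : G) : G ⧸ K.subgroupOf G)) fun a b hab => ?_) ⟨?_, ?_⟩)
  · rw [QuotientGroup.leftRel_apply, Subgroup.mem_subgroupOf] at hab
    exact QuotientGroup.eq.mpr (Subgroup.mem_subgroupOf.mpr (c.hLK hab))
  · intro p q
    induction p using QuotientGroup.induction_on with | _ a => ?_
    induction q using QuotientGroup.induction_on with | _ b => ?_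
    intro e
    have e' : ((⟨(a : Γ), c.hHG a.2⟩ : G) : G ⧸ K.subgroupOf G) = (⟨(b : Γ), c.hHG b.2⟩ : G) := e
    have h1 := Subgroup.mem_subgroupOf.mp (QuotientGroup.eq.mp e')
    exact QuotientGroup.eq.mpr (Subgroup.mem_subgroupOf.mpr (c.inter h1 (a⁻¹ * b).2))
  · intro q
    induction q using QuotientGroup.induction_on with | _ g => ?_
    obtain ⟨k, hk, x, hx, e⟩ := c.decG g.2
    refine ⟨((⟨x, c.hCH hx⟩ : H) : H ⧸ L.subgroupOf H), QuotientGroup.eq.mpr (Subgroup.mem_subgroupOf.mpr ?_)⟩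
    show x⁻¹ * (g : Γ) ∈ K
    rw [e, ← mul_assoc]
    simpa using c.hKn _ (inv_mem (c.hCG hx)) k hk

end Ctx

end CfsgLib.Char.OddSection
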