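import Cfsg.Agent.Lib.Char.OddSection.Core
import Cfsg.Agent.S4447
import Cfsg.Agent.S4448

/-!
# The correspondence over an invariant character of `L`
-/

set_option autoImplicit false
set_option linter.unusedSectionVars false

namespace CfsgLib.Char.OddSection

open scoped ComplexConjugate
open Cfsg CfsgLib.Char

universe u

attribute [local instance] instFintypeSub instFintypeSub₂ instFintypeIrr

variable {Γ : Type u} [Group Γ] [Finite Γ] {G S C K L H : Subgroup Γ}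

theorem isSolvable_of_le' {A B : Subgroup Γ} (h : A ≤ B) (hB : Group.IsSolvable B) : Group.IsSolvable A :=
  haveI := hB
  Group.isSolvable_of_isSolvable_injective (f := Subgroup.inclusion h) (Subgroup.inclusion_injective h)

/-- An invariant character has an invariant constituent below. -/
theorem exists_below {A B : Subgroup Γ} (h : A ≤ B) (hn : NormBy B A) (hSA : NormBy S A) (hSB : NormBy S B)
    (hcop : (Nat.card B).Coprime (Nat.card S)) (hsolv : Group.IsSolvable B) (χ : IrrCharacter B)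
    (hχ : IsInv S B (χ : B → ℂ)) : ∃ θ : IrrCharacter A, mlt h χ θ ≠ 0 ∧ IsInv S A (θ : A → ℂ) := by
  haveI := Fintype.ofFinite Γ
  haveI := hn.normal
  haveI := hsolv
  obtain ⟨θ, h1, h2⟩ := Cfsg.Agent.S4447.result B S A hSB h hSA
    (hcop.coprime_dvd_left (Subgroup.relIndex_dvd_card A B))
    (Or.inr inferInstance) χ hχ
  refine ⟨θ, fun e => h1 ?_, h2⟩
  rw [show (fun n : A => (χ : B → ℂ) ⟨n, h n.2⟩) = res h (χ : B → ℂ) from rfl, classInner_res, e, Nat.cast_zero]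

/-- An invariant character has an invariant character above. -/
theorem exists_above {A B : Subgroup Γ} (h : A ≤ B) (hn : NormBy B A) (hSA : NormBy S A) (hSB : NormBy S B)
    (hcop : (Nat.card B).Coprime (Nat.card S)) (hsolv : Group.IsSolvable B) (θ : IrrCharacter A)
    (hθ : IsInv S A (θ : A → ℂ)) : ∃ χ : IrrCharacter B, mlt h χ θ ≠ 0 ∧ IsInv S B (χ : B → ℂ) := by
  haveI := Fintype.ofFinite Γ
  haveI := hn.normal
  haveI := hsolv
  obtain ⟨χ, h1, h2⟩ := Cfsg.Agent.S4448.result B S A hSB h hSA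
    (hcop.coprime_dvd_left (Subgroup.relIndex_dvd_card A B)) inferInstance θ hθ
  refine ⟨χ, fun e => h1 ?_, h2⟩
  rw [show (fun n : A => (χ : B → ℂ) ⟨n, h n.2⟩) = res h (χ : B → ℂ) from rfl, classInner_res, e, Nat.cast_zero]

namespace Ctx

variable (c : Ctx G S C K L H) (φ : IrrCharacter L) (hφG : IsInv G L (φ : L → ℂ)) (hφS : IsInv S L (φ : L → ℂ))
include c hφS

/-- The invariant characters of `K` over `φ` coincide. -/
theorem theta_unique {θ θ' : IrrCharacter K} (hθ : IsInv S K (θ : K → ℂ)) (hθ' : IsInv S K (θ' : K → ℂ))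
    (h : mlt c.hLK θ φ ≠ 0) (h' : mlt c.hLK θ' φ ≠ 0) : θ = θ' := by
  classical
  haveI := (c.hLn.mono c.hKG).normal
  have hab : ∀ a b : K, a * b * a⁻¹ * b⁻¹ ∈ L.subgroupOf K := fun a b => c.hab a a.2 b b.2
  letI : CommGroup (K ⧸ L.subgroupOf K) :=
    { (inferInstance : Group (K ⧸ L.subgroupOf K)) with
      mul_comm := fun x y => by
        induction x using QuotientGroup.induction_on with | _ a => ?_
        induction y using QuotientGroup.induction_on with | _ b => ?_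
        rw [← QuotientGroup.mk_mul, ← QuotientGroup.mk_mul, QuotientGroup.eq]
        have := hab b⁻¹ a⁻¹
        simpa [mul_assoc] using this }
  have h1 : classInner (fun n : L.subgroupOf K => (θ : K → ℂ) n) (irrSub c.hLK φ : L.subgroupOf K → ℂ) ≠ 0 := by
    rw [classInner_sub, classInner_res]; exact_mod_cast h
  have h2 : classInner (fun n : L.subgroupOf K => (θ' : K → ℂ) n) (irrSub c.hLK φ : L.subgroupOf K → ℂ) ≠ 0 := by
    rw [classInner_sub, classInner_res]; exact_mod_cast h'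
  obtain ⟨f, hf, hfθ⟩ := exists_linMul_eq (L.subgroupOf K) hab h1 h2
  have hstab : ∀ f f' : K →* ℂˣ, linMul f θ = θ → linMul f' θ = θ → linMul (f * f') θ = θ := fun f f' e e' => by
    refine Subtype.ext (funext fun k => ?_)
    have a1 := congrFun (congrArg Subtype.val e) k
    have a2 := congrFun (congrArg Subtype.val e') k
    simp only [linMul] at a1 a2 ⊢
    rw [MonoidHom.mul_apply, Units.val_mul, mul_assoc, a2, a1]
  let cs : S → (K →* K) := fun s =>
    MonoidHom.mk' (fun k => ⟨s * k * (s : Γ)⁻¹, c.hKS s s.2 k k.2⟩) fun a b => Subtype.ext (by simp [mul_assoc])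
  have hs : ∀ s : S, linMul (f⁻¹ * f.comp (cs s)) θ = θ := fun s => by
    refine Subtype.ext (funext fun k => ?_)
    have a1 := congrFun (congrArg Subtype.val hfθ) k
    have a2 := congrFun (congrArg Subtype.val hfθ) (cs s k)
    simp only [linMul] at a1 a2 ⊢
    rw [hθ' s s.2 k (cs s k) rfl, hθ s s.2 k (cs s k) rfl, ← a1] at a2
    rw [MonoidHom.mul_apply, MonoidHom.inv_apply, Units.val_mul, MonoidHom.comp_apply, mul_assoc, a2, ← mul_assoc,
      Units.inv_mul, one_mul]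
  have hprod : linMul (∏ s : S, (f⁻¹ * f.comp (cs s))) θ = θ := by
    refine Finset.prod_induction _ (fun g => linMul g θ = θ) hstab ?_ fun s _ => hs s
    exact Subtype.ext (funext fun k => by simp [linMul])
  have htriv : ∏ s : S, f.comp (cs s) = 1 := by
    refine MonoidHom.ext fun k => ?_
    rw [MonoidHom.finsetProd_apply, MonoidHom.one_apply]
    set fb := QuotientGroup.lift (L.subgroupOf K) f fun x hx => hf x hx with hfb
    have hy : ∏ s : S, ((cs s k : K) : K ⧸ L.subgroupOf K) = 1 := by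
      obtain ⟨y, hy⟩ := QuotientGroup.mk_surjective (∏ s : S, ((cs s k : K) : K ⧸ L.subgroupOf K))
      rw [← hy, QuotientGroup.eq_one_iff, Subgroup.mem_subgroupOf]
      refine c.fix y y.2 fun r hr => ?_
      let q : K ⧸ L.subgroupOf K →* K ⧸ L.subgroupOf K := QuotientGroup.map _ _ (cs ⟨r, hr⟩)
        fun x hx => c.hLS r hr x hx
      have e : q (y : K ⧸ L.subgroupOf K) = y := by
        rw [hy, map_prod]
        refine Fintype.prod_equiv (Equiv.mulLeft (⟨r, hr⟩ : S)) _ _ fun s => ?_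
        show ((cs ⟨r, hr⟩ (cs s k) : K) : K ⧸ L.subgroupOf K) = (cs (⟨r, hr⟩ * s) k : K)
        congr 1
        exact Subtype.ext (by simp [cs, mul_assoc])
      have e2 : ((cs ⟨r, hr⟩ y * y⁻¹ : K) : K ⧸ L.subgroupOf K) = 1 := by
        rw [QuotientGroup.mk_mul, show ((cs ⟨r, hr⟩ y : K) : K ⧸ L.subgroupOf K) = y from e, QuotientGroup.mk_inv,
          mul_inv_cancel]
      exact Subgroup.mem_subgroupOf.mp ((QuotientGroup.eq_one_iff _).mp e2)
    have e : ∀ s : S, (f.comp (cs s)) k = fb ((cs s k : K) : K ⧸ L.subgroupOf K) := fun s => rfl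
    simp only [e]
    rw [← map_prod, hy, map_one]
  rw [Finset.prod_mul_distrib, htriv] at hprod
  replace hprod : linMul (f ^ Nat.card S)⁻¹ θ = θ := by
    refine Eq.trans (congrArg (fun g => linMul g θ) (MonoidHom.ext fun k => ?_)) hprod
    rw [MonoidHom.inv_apply, MonoidHom.pow_apply, MonoidHom.mul_apply, MonoidHom.one_apply, mul_one,
      MonoidHom.finsetProd_apply]
    simp [Nat.card_eq_fintype_card]
  have hpow : ∀ j : ℕ, linMul (((f ^ Nat.card S)⁻¹) ^ j) θ = θ := by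
    intro j
    induction j with
    | zero => exact Subtype.ext (funext fun k => by simp [linMul])
    | succ j ih =>
      refine Eq.trans (congrArg (fun g => linMul g θ) (MonoidHom.ext fun k => ?_)) (hstab _ _ ih hprod)
      simp only [MonoidHom.pow_apply, MonoidHom.mul_apply, pow_succ]
  have hcK : (Nat.card K).Coprime (Nat.card S) := c.cop.coprime_dvd_left (Subgroup.card_dvd_of_le c.hKG)
  have hfK : ∀ k, f k ^ Nat.card K = 1 := fun k => by rw [← map_pow, pow_card_eq_one', map_one]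
  have hinvmem : ∃ j : ℕ, ((f ^ Nat.card S)⁻¹) ^ j = f := by
    rcases (Nat.one_le_iff_ne_zero.mpr Nat.card_pos.ne' : 1 ≤ Nat.card K).eq_or_lt with e1 | e1
    · refine ⟨0, MonoidHom.ext fun k => ?_⟩
      have := hfK k
      rw [← e1, pow_one] at this
      simp [MonoidHom.pow_apply, this]
    · obtain ⟨a, -, ha⟩ := Nat.exists_mul_mod_eq_one_of_coprime hcK.symm e1
      refine ⟨a * (Nat.card K - 1), MonoidHom.ext fun k => ?_⟩
      simp only [MonoidHom.pow_apply, MonoidHom.inv_apply]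
      rw [pow_mul, inv_pow, ← pow_mul, pow_eq_pow_mod _ (hfK k), ha, pow_one, inv_pow]
      refine inv_eq_of_mul_eq_one_right ?_
      rw [← pow_succ, Nat.sub_add_cancel (by omega : 1 ≤ Nat.card K), hfK k]
  obtain ⟨j, hj⟩ := hinvmem
  have hf' := hpow j
  rw [hj] at hf'
  exact hf'.symm.trans hfθ

include hφG in
theorem theta_invariant {θ : IrrCharacter K} (hθ : IsInv S K (θ : K → ℂ)) (h : mlt c.hLK θ φ ≠ 0) :
    IsInv G K (θ : K → ℂ) := by
  rw [← c.hG]
  refine IsInv.of_sup (normBy_self K) (c.hKn.mono c.hCG) (isInv_self θ) ?_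
  intro x hx a a' e
  let q : K →* K := MonoidHom.mk' (fun k => ⟨x * k * x⁻¹, c.hKn x (c.hCG hx) k k.2⟩)
    fun a b => Subtype.ext (by simp [mul_assoc])
  have hq : Function.Surjective q := fun y =>
    ⟨⟨x⁻¹ * y * x, by simpa using c.hKn x⁻¹ (inv_mem (c.hCG hx)) y y.2⟩, Subtype.ext (by simp [q, mul_assoc])⟩
  let θx : IrrCharacter K := ⟨_, isIrrCharacter_comp_surjective θ.2 q hq⟩
  have h1 : IsInv S K (θx : K → ℂ) := fun s hs b b' eb => by
    refine hθ s hs (q b) (q b') ?_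
    show x * (b' : Γ) * x⁻¹ = s * (x * b * x⁻¹) * s⁻¹
    rw [eb, show s * (x * (b : Γ) * x⁻¹) * s⁻¹ = (s * x) * b * (x⁻¹ * s⁻¹) by group,
      show x⁻¹ * s⁻¹ = (s * x)⁻¹ by group, c.comm hx hs]
    group
  have h2 : mlt c.hLK θx φ ≠ 0 := by
    rw [mlt_eq_of c.hLK (m := mlt c.hLK θ φ) ?_]
    · exact h
    rw [← classInner_res c.hLK θ φ]
    simp only [classInner]
    congr 1
    refine Fintype.sum_bijective (fun l : L => (⟨x * l * x⁻¹, c.hLn x (c.hCG hx) l l.2⟩ : L)) ?_ _ _ fun l => ?_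
    · exact Function.bijective_iff_has_inverse.mpr ⟨fun l => ⟨x⁻¹ * l * x,
        by simpa using c.hLn x⁻¹ (inv_mem (c.hCG hx)) l l.2⟩, fun l => Subtype.ext (by simp [mul_assoc]),
        fun l => Subtype.ext (by simp [mul_assoc])⟩
    · show (θ : K → ℂ) (q ⟨l, c.hLK l.2⟩) * _ = (θ : K → ℂ) ⟨x * l * x⁻¹, _⟩ * _
      rw [hφG x (c.hCG hx) l ⟨_, c.hLn x (c.hCG hx) l l.2⟩ rfl]
      rfl
  have h3 := c.theta_unique φ hφS h1 hθ h2 h
  rw [show a' = q a from Subtype.ext e]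
  exact congrFun (congrArg Subtype.val h3) a

theorem inv_of_over (η : IrrCharacter H) (h : mlt c.hLH η φ ≠ 0) : IsInv S H (η : H → ℂ) :=
  isInv_of_centralized c.hLH S (c.hLn.mono c.hHG) c.hLS c.normS_H
    (fun _ hb _ hs => c.centH hb hs) c.copH hφS η h

include hφG in
theorem exists_theta (χ : IrrCharacter G) (hχ : IsInv S G (χ : G → ℂ)) (h : mlt c.hLG χ φ ≠ 0) :
    ∃ θ : IrrCharacter K, mlt c.hKG χ θ ≠ 0 ∧ mlt c.hLK θ φ ≠ 0 ∧ IsInv S K (θ : K → ℂ) := by
  obtain ⟨θ, h1, h2⟩ := exists_below c.hKG c.hKn c.hKS c.hnorm c.cop c.solv χ hχ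
  refine ⟨θ, h1, ?_, h2⟩
  obtain ⟨ψ, hψ⟩ := exists_constituent c.hLK θ
  rwa [← eq_of_over_inv c.hLG c.hLn hφG h (mlt_trans_ne c.hLK c.hKG h1 hψ)]

include hφG in
theorem odd_over (χ : IrrCharacter G) (hχ : IsInv S G (χ : G → ℂ)) (h : mlt c.hLG χ φ ≠ 0) :
    ∃ η : IrrCharacter H, (∀ ξ : IrrCharacter H, Odd (mlt c.hHG χ ξ) ↔ ξ = η) ∧
      mlt c.hLH η φ ≠ 0 ∧ IsInv S H (η : H → ℂ) ∧
      ∀ θ : IrrCharacter K, IsInv G K (θ : K → ℂ) → mlt c.hKG χ θ ≠ 0 → mlt c.hKG χ θ = mlt c.hLH η φ := by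
  obtain ⟨η, hη, hnorm⟩ := odd_constituent c χ hχ φ hφG h
  have hne : mlt c.hHG χ η ≠ 0 := fun e => by
    have := (hη η).mpr rfl
    rw [e] at this
    exact Nat.not_odd_zero this
  obtain ⟨ψ, hψ⟩ := exists_constituent c.hLH η
  have hψφ := eq_of_over_inv c.hLG c.hLn hφG h (mlt_trans_ne c.hLH c.hHG hne hψ)
  subst hψφ
  refine ⟨η, hη, hψ, c.inv_of_over ψ hφS η hψ, fun θ hθ hθχ => ?_⟩
  rw [classInner_res_self c.hLH (c.hLn.mono c.hHG) (hφG.mono c.hHG) hψ,
    classInner_res_self c.hKG c.hKn hθ hθχ, Nat.cast_inj] at hnorm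
  exact (Nat.pow_left_injective two_ne_zero hnorm).symm

include hφG in
theorem exists_odd_above (θ : IrrCharacter K) (hθ : IsInv S K (θ : K → ℂ)) (hθφ : mlt c.hLK θ φ ≠ 0)
    (η : IrrCharacter H) (hη : mlt c.hLH η φ ≠ 0) :
    ∃ χ : IrrCharacter G, mlt c.hKG χ θ ≠ 0 ∧ Odd (mlt c.hHG χ η) := by
  classical
  have hθG := c.theta_invariant φ hφG hφS hθ hθφ
  obtain ⟨E, hEc, hEi, hE0, hEK⟩ := exists_ind c.hKG c.hKn θ hθG
  have hsum : ((∑ χ : IrrCharacter G, mlt c.hKG χ θ * mlt c.hHG χ η : ℕ) : ℂ) =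
      classInner (res c.hHG E) (η : H → ℂ) := by
    have e : res c.hHG E = ∑ χ : IrrCharacter G, (mlt c.hKG χ θ : ℂ) • res c.hHG (χ : G → ℂ) := by
      funext h
      have h1 := congrFun (classFun_expand hEc) ⟨h, c.hHG h.2⟩
      simpa [res, hEi, Finset.sum_apply] using h1
    rw [e, classInner_sum_left, Nat.cast_sum]
    exact Finset.sum_congr rfl fun χ _ => by rw [classInner_smul_left, classInner_res, Nat.cast_mul]
  have hE : classInner (res c.hHG E) (η : H → ℂ) = ((mlt c.hLK θ φ * mlt c.hLH η φ : ℕ) : ℂ) := by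
    have h1 : ∑ h : H, res c.hHG E h * conj ((η : H → ℂ) h) =
        (K.relIndex G : ℂ) * ∑ l : L, (θ : K → ℂ) ⟨l, c.hLK l.2⟩ * conj ((η : H → ℂ) ⟨l, c.hLH l.2⟩) := by
      rw [Finset.mul_sum, ← Finset.sum_filter_of_ne (p := fun h : H => (h : Γ) ∈ L) fun h _ hh => by
        by_contra hh'
        exact hh (by rw [res, hE0 _ fun hk => hh' (c.inter hk h.2), zero_mul])]
      refine Finset.sum_bij (fun h hh => (⟨(h : Γ), (Finset.mem_filter.mp hh).2⟩ : L))
        (fun h _ => Finset.mem_univ _) (fun h _ h' _ e => Subtype.ext (congrArg (fun x : L => (x : Γ)) e))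
        (fun l _ => ⟨⟨l, c.hLH l.2⟩, by simp, rfl⟩) fun h hh => ?_
      rw [← mul_assoc]
      congr 1
      exact hEK ⟨(h : Γ), c.hLK (Finset.mem_filter.mp hh).2⟩
    have h2 : classInner (res c.hLK (θ : K → ℂ)) (res c.hLH (η : H → ℂ)) =
        ((mlt c.hLK θ φ * mlt c.hLH η φ : ℕ) : ℂ) := by
      rw [res_eq_smul c.hLK (c.hLn.mono c.hKG) (hφG.mono c.hKG) hθφ,
        res_eq_smul c.hLH (c.hLn.mono c.hHG) (hφG.mono c.hHG) hη, classInner_smul_left, classInner_smul_right,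
        classInner_irr_self, map_natCast, mul_one, Nat.cast_mul]
    have h3 : (Nat.card H : ℂ) = (Nat.card L : ℂ) * (K.relIndex G : ℂ) := by
      have e1 := Subgroup.card_mul_index (L.subgroupOf H)
      rw [Nat.card_congr (Subgroup.subgroupOfEquivOfLe c.hLH).toEquiv] at e1
      rw [← c.relIndex_eq, ← e1, Nat.cast_mul]
      rfl
    rw [← h2]
    simp only [classInner, res]
    simp only [res] at h1
    rw [h1, h3]
    have : (K.relIndex G : ℂ) ≠ 0 := Nat.cast_ne_zero.mpr Subgroup.index_ne_zero_of_finite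
    have : (Nat.card L : ℂ) ≠ 0 := by exact_mod_cast Nat.card_pos.ne'
    field_simp
  have hodd : Odd (∑ χ : IrrCharacter G, mlt c.hKG χ θ * mlt c.hHG χ η) := by
    have h4 := Nat.cast_injective (R := ℂ) (hsum.trans hE)
    rw [h4, Nat.odd_mul]
    exact ⟨(c.odd_relIndex c.hKG).of_dvd_nat (mlt_dvd_relIndex c.hLK (c.hLn.mono c.hKG) (hφG.mono c.hKG) hθφ),
      (c.odd_relIndex c.hHG).of_dvd_nat (mlt_dvd_relIndex c.hLH (c.hLn.mono c.hHG) (hφG.mono c.hHG) hη)⟩
  by_contra hno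
  push Not at hno
  refine Nat.not_even_iff_odd.mpr hodd (Finset.even_sum _ fun χ _ => ?_)
  rcases eq_or_ne (mlt c.hKG χ θ) 0 with e | e
  · rw [e, zero_mul]; exact Even.zero
  · exact (Nat.not_odd_iff_even.mp (hno χ e)).mul_left _

include hφG in
theorem inv_of_over_theta {θ : IrrCharacter K} (hθ : IsInv S K (θ : K → ℂ)) (χ : IrrCharacter G)
    (h : mlt c.hKG χ θ ≠ 0) : IsInv S G (χ : G → ℂ) :=
  isInv_of_centralized c.hKG S c.hKn c.hKS c.hnorm (fun _ hb _ hs => c.centG hb hs) c.cop hθ χ h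

include hφG in
theorem surjective_over (η : IrrCharacter H) (hη : mlt c.hLH η φ ≠ 0) :
    ∃ χ : IrrCharacter G, IsInv S G (χ : G → ℂ) ∧ mlt c.hLG χ φ ≠ 0 ∧ Odd (mlt c.hHG χ η) := by
  obtain ⟨θ, h1, h2⟩ := exists_above (B := K) c.hLK (c.hLn.mono c.hKG) c.hLS c.hKS
    (c.cop.coprime_dvd_left (Subgroup.card_dvd_of_le c.hKG)) (isSolvable_of_le' c.hKG c.solv) φ hφS
  obtain ⟨χ, h3, h4⟩ := c.exists_odd_above φ hφG hφS θ h2 h1 η hη
  exact ⟨χ, c.inv_of_over_theta φ hφG hφS h2 χ h3, mlt_trans_ne c.hLK c.hKG h3 h1, h4⟩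

include hφG in
theorem injective_over {χ χ' : IrrCharacter G} (hχ : IsInv S G (χ : G → ℂ)) (hχ' : IsInv S G (χ' : G → ℂ))
    (h : mlt c.hLG χ φ ≠ 0) (h' : mlt c.hLG χ' φ ≠ 0) {η : IrrCharacter H} (ho : Odd (mlt c.hHG χ η))
    (ho' : Odd (mlt c.hHG χ' η)) : χ = χ' := by
  classical
  obtain ⟨θ, hθ1, hθ2, hθ3⟩ := c.exists_theta φ hφG hφS χ hχ h
  obtain ⟨θ', hθ1', hθ2', hθ3'⟩ := c.exists_theta φ hφG hφS χ' hχ' h'
  have := c.theta_unique φ hφS hθ3' hθ3 hθ2' hθ2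
  subst this
  have hθG := c.theta_invariant φ hφG hφS hθ3 hθ2
  set A := Finset.univ.filter fun ξ : IrrCharacter G => mlt c.hKG ξ θ' ≠ 0 with hA
  set B := Finset.univ.filter fun ξ : IrrCharacter H => mlt c.hLH ξ φ ≠ 0 with hB
  have hodd : ∀ ξ ∈ A, ∃ η : IrrCharacter H, (∀ z : IrrCharacter H, Odd (mlt c.hHG ξ z) ↔ z = η) ∧
      mlt c.hKG ξ θ' = mlt c.hLH η φ := by
    intro ξ hξ
    have hne := (Finset.mem_filter.mp hξ).2
    obtain ⟨η, h1, -, -, h4⟩ := c.odd_over φ hφG hφS ξ (c.inv_of_over_theta φ hφG hφS hθ3 ξ hne)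
      (mlt_trans_ne c.hLK c.hKG hne hθ2)
    exact ⟨η, h1, h4 θ' hθG hne⟩
  choose g hg hgw using hodd
  let g' : IrrCharacter G → IrrCharacter H := fun ξ => if hξ : ξ ∈ A then g ξ hξ else η
  have hmem : χ ∈ A := Finset.mem_filter.mpr ⟨Finset.mem_univ _, hθ1⟩
  have hmem' : χ' ∈ A := Finset.mem_filter.mpr ⟨Finset.mem_univ _, hθ1'⟩
  have hgη : g χ hmem = η := ((hg χ hmem η).mp ho).symm
  have hgη' : g χ' hmem' = η := ((hg χ' hmem' η).mp ho').symm
  by_contra hne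
  have hcover : B ⊆ (A.erase χ').image g' := by
    intro z hz
    obtain ⟨ξ, h1, h2⟩ := c.exists_odd_above φ hφG hφS θ' hθ3 hθ2 z (Finset.mem_filter.mp hz).2
    have hξ : ξ ∈ A := Finset.mem_filter.mpr ⟨Finset.mem_univ _, h1⟩
    have hz' : g ξ hξ = z := ((hg ξ hξ z).mp h2).symm
    rw [Finset.mem_image]
    rcases eq_or_ne ξ χ' with rfl | hξ'
    · exact ⟨χ, Finset.mem_erase.mpr ⟨hne, hmem⟩, by simp only [g', dif_pos hmem]; rw [hgη, ← hgη', hz']⟩
    · exact ⟨ξ, Finset.mem_erase.mpr ⟨hξ', hξ⟩, by simp only [g', dif_pos hξ]; exact hz'⟩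
  have e1 : ∑ ξ ∈ A, mlt c.hKG ξ θ' ^ 2 = K.relIndex G := by
    rw [← sum_mlt_sq c.hKG c.hKn θ' hθG, hA, Finset.sum_filter_of_ne]
    intro ξ _ hne0 e
    exact hne0 (by rw [e, zero_pow two_ne_zero])
  have e2 : ∑ ξ ∈ B, mlt c.hLH ξ φ ^ 2 = L.relIndex H := by
    rw [← sum_mlt_sq c.hLH (c.hLn.mono c.hHG) φ (hφG.mono c.hHG), hB, Finset.sum_filter_of_ne]
    intro ξ _ hne0 e
    exact hne0 (by rw [e, zero_pow two_ne_zero])
  have e3 : ∑ ξ ∈ B, mlt c.hLH ξ φ ^ 2 ≤ ∑ ξ ∈ A.erase χ', mlt c.hKG ξ θ' ^ 2 := by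
    refine (Finset.sum_le_sum_of_subset hcover).trans ((Finset.sum_image_le_of_nonneg fun _ _ => Nat.zero_le _).trans
      (Finset.sum_le_sum fun ξ hξ => ?_))
    have hξA := Finset.mem_of_mem_erase hξ
    simp only [g', dif_pos hξA, ← hgw ξ hξA, le_refl]
  have e4 := Finset.add_sum_erase A (fun ξ => mlt c.hKG ξ θ' ^ 2) hmem'
  have e5 : 0 < mlt c.hKG χ' θ' ^ 2 := Nat.pow_pos (Nat.pos_of_ne_zero hθ1')
  rw [e2, c.relIndex_eq] at e3
  beta_reduce at e4
  omega

end Ctx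

end CfsgLib.Char.OddSection
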