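import Mathlib.Analysis.Complex.Polynomial.Basic
import Mathlib.GroupTheory.OrderOfElement
import Mathlib.GroupTheory.Index
import Mathlib.Algebra.Algebra.Equiv
import Mathlib.Algebra.Group.Subgroup.Basic

/-!
# Canonical lifts for an abelian section acting by inner automorphisms on an algebra

An algebra over the complex numbers with scalar centre, a section `K / L` of odd order whose
elements act by inner automorphisms, and a group of coprime order without fixed points on it:
the section has a canonical set of normalised implementing units.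
-/

set_option autoImplicit false
set_option linter.unusedSectionVars false

namespace CfsgLib.Char.OddSection

universe u v

/-- The data of an abelian section acting on an algebra. -/
structure Twist (D : Type u) [Group D] (M : Type v) [Ring M] [Algebra ℂ M] where
  act : D →* (M ≃ₐ[ℂ] M)
  K : Subgroup D
  L : Subgroup D
  S : Subgroup D
  C : Subgroup D
  hKn : K.Normal
  hLn : L.Normal
  hLK : L ≤ K
  hab : ∀ a ∈ K, ∀ b ∈ K, a * b * a⁻¹ * b⁻¹ ∈ L
  hL : ∀ l ∈ L, act l = 1
  inner : ∀ k ∈ K, ∃ w : Mˣ, ∀ Y : M, act k Y = (w : M) * Y * ((w⁻¹ : Mˣ) : M)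
  center : ∀ z : M, (∀ Y : M, z * Y = Y * z) → ∃ c : ℂ, z = c • (1 : M)
  irr : ∀ Y : M, (∀ k ∈ K, act k Y = Y) → (∀ c ∈ C, act c Y = Y) → ∃ c : ℂ, Y = c • (1 : M)
  comm : ∀ s ∈ S, ∀ c ∈ C, s * c = c * s
  fix : ∀ k ∈ K, (∀ s ∈ S, s * k * s⁻¹ * k⁻¹ ∈ L) → k ∈ L
  copN : (L.relIndex K).Coprime (Nat.card S)
  copC : (Nat.card C).Coprime (Nat.card S)
  oddN : Odd (L.relIndex K)
  oddC : Odd (Nat.card C)

namespace Twist

variable {D : Type u} [Group D] {M : Type v} [Ring M] [Algebra ℂ M] (t : Twist D M)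

instance normalL : (t.L.subgroupOf t.K).Normal :=
  haveI := t.hLn
  inferInstance

/-- The section. -/
abbrev X := t.K ⧸ t.L.subgroupOf t.K

instance commGroupX : CommGroup t.X :=
  { (inferInstance : Group t.X) with
    mul_comm := fun x y => by
      induction x using QuotientGroup.induction_on with | _ a => ?_
      induction y using QuotientGroup.induction_on with | _ b => ?_
      rw [← QuotientGroup.mk_mul, ← QuotientGroup.mk_mul, QuotientGroup.eq, Subgroup.mem_subgroupOf]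
      have := t.hab _ (inv_mem b.2) _ (inv_mem a.2)
      simpa [mul_assoc] using this }

theorem mk_eq_one {k : t.K} : (k : t.X) = 1 ↔ (k : D) ∈ t.L := by
  rw [QuotientGroup.eq_one_iff, Subgroup.mem_subgroupOf]

/-- Conjugation by `d` on `K`. -/
def cK (d : D) : t.K →* t.K :=
  MonoidHom.mk' (fun k => ⟨d * k * d⁻¹, t.hKn.conj_mem _ k.2 d⟩) fun a b => Subtype.ext (by simp [mul_assoc])

/-- Conjugation by `d` on the section. -/
def cx (d : D) : t.X →* t.X :=
  QuotientGroup.map _ _ (t.cK d) fun k hk => t.hLn.conj_mem _ (Subgroup.mem_subgroupOf.mp hk) d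

theorem cx_mk (d : D) (k : t.K) : t.cx d (k : t.X) = (t.cK d k : t.X) := rfl

theorem cx_mul (d e : D) (x : t.X) : t.cx (d * e) x = t.cx d (t.cx e x) := by
  induction x using QuotientGroup.induction_on with | _ k => ?_
  rw [cx_mk, cx_mk, cx_mk]
  congr 1
  exact Subtype.ext (by simp [cK, mul_assoc])

theorem cx_one (x : t.X) : t.cx 1 x = x := by
  induction x using QuotientGroup.induction_on with | _ k => ?_
  rw [cx_mk]
  congr 1
  exact Subtype.ext (by simp [cK])

theorem cx_inv_cx (d : D) (x : t.X) : t.cx d⁻¹ (t.cx d x) = x := by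
  rw [← cx_mul, inv_mul_cancel, cx_one]

theorem cx_cx_inv (d : D) (x : t.X) : t.cx d (t.cx d⁻¹ x) = x := by
  rw [← cx_mul, mul_inv_cancel, cx_one]

/-- The action of the section on the algebra. -/
def ad : t.X →* (M ≃ₐ[ℂ] M) :=
  QuotientGroup.lift _ (t.act.comp t.K.subtype) fun k hk => t.hL _ (Subgroup.mem_subgroupOf.mp hk)

theorem ad_mk (k : t.K) : t.ad (k : t.X) = t.act k := rfl

theorem ad_mul_apply (x y : t.X) (Y : M) : t.ad (x * y) Y = t.ad x (t.ad y Y) := by
  rw [map_mul, AlgEquiv.mul_apply]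

theorem act_mul_apply (d e : D) (Y : M) : t.act (d * e) Y = t.act d (t.act e Y) := by
  rw [map_mul, AlgEquiv.mul_apply]

theorem act_inv_act (d : D) (Y : M) : t.act d⁻¹ (t.act d Y) = Y := by
  rw [← act_mul_apply, inv_mul_cancel, map_one, AlgEquiv.one_apply]

theorem act_act_inv (d : D) (Y : M) : t.act d (t.act d⁻¹ Y) = Y := by
  rw [← act_mul_apply, mul_inv_cancel, map_one, AlgEquiv.one_apply]

theorem ad_cx (d : D) (x : t.X) (Y : M) : t.ad (t.cx d x) Y = t.act d (t.ad x (t.act d⁻¹ Y)) := by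
  induction x using QuotientGroup.induction_on with | _ k => ?_
  rw [cx_mk, ad_mk, ad_mk]
  show t.act (d * k * d⁻¹) Y = _
  rw [act_mul_apply, act_mul_apply]

/-- The image of a unit under an automorphism. -/
def au (α : M ≃ₐ[ℂ] M) : Mˣ →* Mˣ := Units.map (α : M →* M)

theorem coe_au (α : M ≃ₐ[ℂ] M) (w : Mˣ) : ((au α w : Mˣ) : M) = α w := rfl

/-- Scalar units. -/
noncomputable def sc : ℂˣ →* Mˣ := Units.map (algebraMap ℂ M : ℂ →* M)

theorem coe_sc (c : ℂˣ) : ((sc c : Mˣ) : M) = algebraMap ℂ M c := rfl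

theorem sc_comm (c : ℂˣ) (w : Mˣ) : w * sc c = sc c * w :=
  Units.ext (Algebra.commutes (c : ℂ) (w : M)).symm

theorem sc_left_comm (c : ℂˣ) (w w' : Mˣ) : w * (sc c * w') = sc c * (w * w') := by
  rw [← mul_assoc, sc_comm, mul_assoc]

theorem au_sc (α : M ≃ₐ[ℂ] M) (c : ℂˣ) : au α (sc c) = sc c :=
  Units.ext (α.commutes (c : ℂ))

/-- `w` implements `x`. -/
def Cl (x : t.X) (w : Mˣ) : Prop := ∀ Y : M, t.ad x Y = (w : M) * Y * ((w⁻¹ : Mˣ) : M)

theorem exists_cl (x : t.X) : ∃ w, t.Cl x w := by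
  induction x using QuotientGroup.induction_on with | _ k => ?_
  exact t.inner k k.2

theorem Cl.mul {x y : t.X} {v w : Mˣ} (h : t.Cl x v) (h' : t.Cl y w) : t.Cl (x * y) (v * w) := by
  intro Y
  rw [ad_mul_apply, h', h]
  simp [mul_assoc]

theorem cl_sc (c : ℂˣ) : t.Cl 1 (sc c) := by
  intro Y
  rw [map_one, AlgEquiv.one_apply, coe_sc, Algebra.commutes, mul_assoc, ← coe_sc, Units.mul_inv, mul_one]

theorem Cl.inv {x : t.X} {v : Mˣ} (h : t.Cl x v) : t.Cl x⁻¹ v⁻¹ := by
  intro Y
  apply (t.ad x).injective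
  rw [← ad_mul_apply, mul_inv_cancel, map_one, AlgEquiv.one_apply, h]
  simp [mul_assoc]

theorem cl_one : t.Cl 1 1 := by intro Y; simp

theorem Cl.pow {x : t.X} {v : Mˣ} (h : t.Cl x v) : ∀ n : ℕ, t.Cl (x ^ n) (v ^ n)
  | 0 => by rw [pow_zero, pow_zero]; exact t.cl_one
  | n + 1 => by rw [pow_succ, pow_succ]; exact (Cl.pow h n).mul t h

theorem Cl.act {x : t.X} {v : Mˣ} (h : t.Cl x v) (d : D) : t.Cl (t.cx d x) (au (t.act d) v) := by
  intro Y
  rw [ad_cx, h, map_mul, map_mul, act_act_inv, coe_au, ← map_inv, coe_au]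

variable [Nontrivial M]

theorem sc_injective : Function.Injective (sc : ℂˣ →* Mˣ) := fun a b h =>
  Units.ext ((algebraMap ℂ M).injective (congrArg Units.val h))

include t in
theorem exists_sc_of_central {z : Mˣ} (h : ∀ Y : M, (z : M) * Y = Y * z) : ∃ c : ℂˣ, z = sc c := by
  obtain ⟨c, hc⟩ := t.center z h
  have hc0 : c ≠ 0 := fun h0 => z.ne_zero (by rw [hc, h0, zero_smul])
  exact ⟨Units.mk0 c hc0, Units.ext (hc.trans (Algebra.algebraMap_eq_smul_one c).symm)⟩

theorem Cl.unique {x : t.X} {v w : Mˣ} (h : t.Cl x v) (h' : t.Cl x w) : ∃ c : ℂˣ, w = sc c * v := by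
  obtain ⟨c, hc⟩ := t.exists_sc_of_central (z := v⁻¹ * w) fun Y => by
    have e : (v : M) * Y * ((v⁻¹ : Mˣ) : M) = (w : M) * Y * ((w⁻¹ : Mˣ) : M) := (h Y).symm.trans (h' Y)
    calc ((v⁻¹ * w : Mˣ) : M) * Y = ((v⁻¹ : Mˣ) : M) * ((w : M) * Y * ((w⁻¹ : Mˣ) : M)) * (w : M) := by
          simp [mul_assoc]
      _ = _ := by rw [← e]; simp [mul_assoc]
  exact ⟨c, by rw [← sc_comm, ← hc, mul_inv_cancel_left]⟩

theorem exists_om (x y : t.X) : ∃ c : ℂˣ, ∀ w, t.Cl y w → au (t.ad x) w = sc c * w := by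
  obtain ⟨w, hw⟩ := t.exists_cl y
  have h1 : t.Cl y (au (t.ad x) w) := by
    intro Y
    have h2 := congrArg (t.ad x) (hw (t.ad x⁻¹ Y))
    rw [← ad_mul_apply, ← ad_mul_apply, mul_comm x y, mul_inv_cancel_right, map_mul,
      map_mul, ← t.ad_mul_apply x x⁻¹, mul_inv_cancel, map_one, AlgEquiv.one_apply] at h2
    rw [h2, coe_au, ← map_inv, coe_au]
  obtain ⟨c, hc⟩ := Cl.unique t hw h1
  refine ⟨c, fun w' hw' => ?_⟩
  obtain ⟨c', rfl⟩ := Cl.unique t hw hw'
  rw [map_mul, au_sc, hc, ← mul_assoc, ← mul_assoc, ← map_mul, ← map_mul, mul_comm]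

/-- The commutator pairing. -/
noncomputable def om (x y : t.X) : ℂˣ := Classical.choose (t.exists_om x y)

theorem au_ad (x : t.X) {y : t.X} {w : Mˣ} (h : t.Cl y w) : au (t.ad x) w = sc (t.om x y) * w :=
  Classical.choose_spec (t.exists_om x y) w h

theorem mul_eq_om {x y : t.X} {v w : Mˣ} (h : t.Cl x v) (h' : t.Cl y w) :
    v * w = sc (t.om x y) * (w * v) := by
  have h1 : au (t.ad x) w = v * w * v⁻¹ := Units.ext (h _)
  rw [← mul_assoc, ← t.au_ad x h', h1, inv_mul_cancel_right]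

theorem om_eq {x y : t.X} {w : Mˣ} (h : t.Cl y w) {c : ℂˣ} (e : au (t.ad x) w = sc c * w) :
    t.om x y = c :=
  sc_injective (mul_right_cancel ((t.au_ad x h).symm.trans e))

theorem om_mul_left (x x' y : t.X) : t.om (x * x') y = t.om x y * t.om x' y := by
  obtain ⟨w, hw⟩ := t.exists_cl y
  refine t.om_eq hw (Units.ext ?_)
  rw [coe_au, ad_mul_apply, ← coe_au _ w, t.au_ad x' hw, ← coe_au, map_mul, au_sc, t.au_ad x hw, ← mul_assoc,
    ← map_mul, mul_comm (t.om x' y)]

theorem om_mul_right (x y y' : t.X) : t.om x (y * y') = t.om x y * t.om x y' := by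
  obtain ⟨w, hw⟩ := t.exists_cl y
  obtain ⟨w', hw'⟩ := t.exists_cl y'
  refine t.om_eq (hw.mul t hw') ?_
  rw [map_mul, t.au_ad x hw, t.au_ad x hw', map_mul, mul_assoc, sc_left_comm, ← mul_assoc, mul_assoc]

theorem om_one_left (y : t.X) : t.om 1 y = 1 := by
  simpa using t.om_mul_left 1 1 y

theorem om_one_right (x : t.X) : t.om x 1 = 1 := by
  simpa using t.om_mul_right x 1 1

theorem om_self (x : t.X) : t.om x x = 1 := by
  obtain ⟨w, hw⟩ := t.exists_cl x
  refine t.om_eq hw (Units.ext ?_)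
  rw [coe_au, hw, map_one, one_mul, Units.mul_inv_cancel_right]

theorem om_swap (x y : t.X) : t.om x y * t.om y x = 1 := by
  have h := t.om_self (x * y)
  rw [om_mul_left, om_mul_right, om_mul_right, t.om_self x, t.om_self y, one_mul, mul_one] at h
  exact h

theorem om_cx (d : D) (x y : t.X) : t.om (t.cx d x) (t.cx d y) = t.om x y := by
  obtain ⟨w, hw⟩ := t.exists_cl y
  refine t.om_eq (hw.act t d) (Units.ext ?_)
  rw [coe_au, ad_cx, coe_au, act_inv_act, ← coe_au _ w, t.au_ad x hw, ← coe_au, map_mul, au_sc]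

theorem om_pow_left (x y : t.X) : ∀ n : ℕ, t.om (x ^ n) y = t.om x y ^ n
  | 0 => by rw [pow_zero, pow_zero, om_one_left]
  | n + 1 => by rw [pow_succ, pow_succ, om_mul_left, om_pow_left x y n]

theorem om_pow_right (x y : t.X) (n : ℕ) : t.om x (y ^ n) = t.om x y ^ n := by
  induction n with
  | zero => rw [pow_zero, pow_zero, om_one_right]
  | succ n ih => rw [pow_succ, pow_succ, om_mul_right, ih]

theorem card_X : Nat.card t.X = t.L.relIndex t.K := rfl

variable [Finite D]

theorem oddX : Odd (Nat.card t.X) := t.oddN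

theorem om_pow_card (x y : t.X) : t.om x y ^ Nat.card t.X = 1 := by
  rw [← om_pow_left, pow_card_eq_one', om_one_left]

/-- The square root of the pairing. -/
noncomputable def be (x y : t.X) : ℂˣ := t.om x y ^ ((Nat.card t.X + 1) / 2)

theorem be_sq (x y : t.X) : t.be x y * t.be x y = t.om x y := by
  obtain ⟨k, hk⟩ := t.oddX
  have h := t.om_pow_card x y
  rw [be, hk, show (2 * k + 1 + 1) / 2 = k + 1 by omega, ← pow_add, show k + 1 + (k + 1) = (2 * k + 1) + 1 by ring,
    pow_succ, ← hk, h, one_mul]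

theorem be_pow_card (x y : t.X) : t.be x y ^ Nat.card t.X = 1 := by
  rw [be, ← pow_mul, mul_comm, pow_mul, om_pow_card, one_pow]

theorem be_mul_left (x x' y : t.X) : t.be (x * x') y = t.be x y * t.be x' y := by
  simp only [be, om_mul_left, mul_pow]

theorem be_mul_right (x y y' : t.X) : t.be x (y * y') = t.be x y * t.be x y' := by
  simp only [be, om_mul_right, mul_pow]

theorem be_one_left (y : t.X) : t.be 1 y = 1 := by simp only [be, om_one_left, one_pow]

theorem be_one_right (x : t.X) : t.be x 1 = 1 := by simp only [be, om_one_right, one_pow]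

theorem be_self (x : t.X) : t.be x x = 1 := by simp only [be, om_self, one_pow]

theorem be_swap (x y : t.X) : t.be x y * t.be y x = 1 := by
  simp only [be, ← mul_pow, om_swap, one_pow]

theorem be_inv_left (x y : t.X) : t.be x⁻¹ y = t.be y x := by
  have h := t.be_mul_left x⁻¹ x y
  rw [inv_mul_cancel, be_one_left] at h
  exact mul_right_cancel (b := t.be x y) (by rw [← h, mul_comm, t.be_swap x y])

theorem be_inv_right (x y : t.X) : t.be x y⁻¹ = t.be y x := by
  have h := t.be_mul_right x y⁻¹ y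
  rw [inv_mul_cancel, be_one_right] at h
  exact mul_right_cancel (b := t.be x y) (by rw [← h, mul_comm, t.be_swap x y])

theorem be_cx (d : D) (x y : t.X) : t.be (t.cx d x) (t.cx d y) = t.be x y := by
  simp only [be, om_cx]

theorem be_pow_left (x y : t.X) (n : ℕ) : t.be (x ^ n) y = t.be x y ^ n := by
  simp only [be, om_pow_left, ← pow_mul, mul_comm]

/-- A normalised implementing unit. -/
@[ext]
structure Lift where
  x : t.X
  w : Mˣ
  cl : t.Cl x w
  pow : w ^ Nat.card t.X = 1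

/-- The powers of a product of two implementing units. -/
theorem cl_mul_pow {x y : t.X} {v w : Mˣ} (hv : t.Cl x v) (hw : t.Cl y w) :
    ∀ n : ℕ, (v * w) ^ n = sc (t.om y x ^ n.choose 2) * (v ^ n * w ^ n)
  | 0 => by simp
  | n + 1 => by
    have h1 : w ^ n * v = sc (t.om y x ^ n) * (v * w ^ n) := by
      rw [← om_pow_left]; exact t.mul_eq_om (hw.pow t n) hv
    calc (v * w) ^ (n + 1) = sc (t.om y x ^ n.choose 2) * (v ^ n * w ^ n) * (v * w) := by
          rw [pow_succ, cl_mul_pow hv hw n]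
      _ = sc (t.om y x ^ n.choose 2) * (v ^ n * (w ^ n * v * w)) := by simp only [mul_assoc]
      _ = sc (t.om y x ^ n.choose 2) * sc (t.om y x ^ n) * (v ^ n * (v * w ^ n * w)) := by
          rw [h1, mul_assoc (sc (t.om y x ^ n)), sc_left_comm (t.om y x ^ n), ← mul_assoc (sc (t.om y x ^ n.choose 2))]
      _ = _ := by
          rw [← map_mul, ← pow_add, show n.choose 2 + n = (n + 1).choose 2 by
            rw [Nat.choose_succ_succ' n 1, Nat.choose_one_right, add_comm], pow_succ, pow_succ]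
          simp only [mul_assoc]

theorem om_choose (x y : t.X) : t.om x y ^ (Nat.card t.X).choose 2 = 1 := by
  obtain ⟨k, hk⟩ := t.oddX
  rw [Nat.choose_two_right, hk, show 2 * k + 1 - 1 = k * 2 by omega, ← mul_assoc,
    Nat.mul_div_cancel _ (by norm_num : 0 < 2), pow_mul, ← hk, om_pow_card, one_pow]

noncomputable instance : One t.Lift := ⟨⟨1, 1, t.cl_one, one_pow _⟩⟩

noncomputable instance : Mul t.Lift :=
  ⟨fun p q => ⟨p.x * q.x, sc (t.be p.x q.x)⁻¹ * (p.w * q.w),
    by simpa using (t.cl_sc (t.be p.x q.x)⁻¹).mul t (p.cl.mul t q.cl),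
    by
      rw [(Commute.pow_left (show Commute (sc (t.be p.x q.x)⁻¹) (p.w * q.w) from (sc_comm _ _).symm) 1 |> fun h => by
            simpa using h : Commute (sc (t.be p.x q.x)⁻¹) (p.w * q.w)).mul_pow, ← map_pow, inv_pow,
        be_pow_card, inv_one, map_one, one_mul, t.cl_mul_pow p.cl q.cl, om_choose, map_one, one_mul, p.pow,
        q.pow, mul_one]⟩⟩

noncomputable instance : Inv t.Lift :=
  ⟨fun p => ⟨p.x⁻¹, p.w⁻¹, p.cl.inv t, by rw [inv_pow, p.pow, inv_one]⟩⟩

theorem one_x : (1 : t.Lift).x = 1 := rfl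
theorem one_w : (1 : t.Lift).w = 1 := rfl
theorem mul_x (p q : t.Lift) : (p * q).x = p.x * q.x := rfl
theorem mul_w (p q : t.Lift) : (p * q).w = sc (t.be p.x q.x)⁻¹ * (p.w * q.w) := rfl
theorem inv_x (p : t.Lift) : (p⁻¹).x = p.x⁻¹ := rfl
theorem inv_w (p : t.Lift) : (p⁻¹).w = p.w⁻¹ := rfl

noncomputable instance : CommGroup t.Lift where
  mul_assoc p q r := Lift.ext (by simp only [mul_x, mul_assoc]) (by
    simp only [mul_w, mul_x]
    rw [mul_assoc (sc (t.be p.x q.x)⁻¹), ← mul_assoc (sc (t.be (p.x * q.x) r.x)⁻¹), ← map_mul,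
      sc_left_comm (t.be q.x r.x)⁻¹, ← mul_assoc (sc (t.be p.x (q.x * r.x))⁻¹), ← map_mul, mul_assoc p.w]
    congr 2
    simp only [be_mul_left, be_mul_right, mul_inv, mul_comm, mul_assoc, mul_left_comm])
  one_mul p := Lift.ext (by rw [mul_x, one_x, one_mul]) (by
    rw [mul_w, one_x, one_w, be_one_left, inv_one, map_one, one_mul, one_mul])
  mul_one p := Lift.ext (by rw [mul_x, one_x, mul_one]) (by
    rw [mul_w, one_x, one_w, be_one_right, inv_one, map_one, one_mul, mul_one])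
  inv_mul_cancel p := Lift.ext (by rw [mul_x, inv_x, inv_mul_cancel, one_x]) (by
    rw [mul_w, inv_x, inv_w, be_inv_left, be_self, inv_one, map_one, one_mul, inv_mul_cancel, one_w])
  mul_comm p q := Lift.ext (by simp only [mul_x, mul_comm]) (by
    rw [mul_w, mul_w, t.mul_eq_om p.cl q.cl, ← mul_assoc, ← map_mul]
    congr 2
    rw [← t.be_sq p.x q.x, inv_mul_cancel_left]
    exact eq_inv_of_mul_eq_one_left (t.be_swap p.x q.x))

/-- The projection to the section. -/
noncomputable def px : t.Lift →* t.X := MonoidHom.mk' Lift.x fun _ _ => rfl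

theorem px_apply (p : t.Lift) : t.px p = p.x := rfl

theorem pow_x (p : t.Lift) (n : ℕ) : (p ^ n).x = p.x ^ n := map_pow t.px p n

theorem pow_w (p : t.Lift) : ∀ n : ℕ, (p ^ n).w = p.w ^ n
  | 0 => by rw [pow_zero, pow_zero, one_w]
  | n + 1 => by
    rw [pow_succ, pow_succ, mul_w, pow_x, be_pow_left, be_self, one_pow, inv_one, map_one, one_mul, pow_w p n]

theorem lift_pow_card (p : t.Lift) : p ^ Nat.card t.X = 1 :=
  Lift.ext (by rw [pow_x, pow_card_eq_one', one_x]) (by rw [pow_w, p.pow, one_w])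

theorem exists_lift (x : t.X) : ∃ p : t.Lift, p.x = x := by
  obtain ⟨w, hw⟩ := t.exists_cl x
  have h1 : t.Cl 1 (w ^ Nat.card t.X) := by
    have := hw.pow t (Nat.card t.X)
    rwa [pow_card_eq_one'] at this
  obtain ⟨c, hc⟩ := Cl.unique t t.cl_one h1
  rw [mul_one] at hc
  obtain ⟨z, hz⟩ := IsAlgClosed.exists_pow_nat_eq (c : ℂ) (Nat.card_pos (α := t.X))
  have hz0 : z ≠ 0 := fun h0 => c.ne_zero (by rw [← hz, h0, zero_pow Nat.card_pos.ne'])
  refine ⟨⟨x, sc (Units.mk0 z hz0)⁻¹ * w, by simpa using (t.cl_sc (Units.mk0 z hz0)⁻¹).mul t hw, ?_⟩, rfl⟩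
  rw [(show Commute (sc (Units.mk0 z hz0)⁻¹) w from (sc_comm _ _).symm).mul_pow, ← map_pow, hc, ← map_mul]
  rw [show (Units.mk0 z hz0)⁻¹ ^ Nat.card t.X * c = 1 by
    rw [inv_pow, inv_mul_eq_one]; exact Units.ext (by simpa using hz)]
  exact map_one _

theorem scalar_of_px {p : t.Lift} (h : p.x = 1) : ∃ c : ℂˣ, p.w = sc c := by
  obtain ⟨c, hc⟩ := Cl.unique t t.cl_one (h ▸ p.cl)
  exact ⟨c, by rw [hc, mul_one]⟩

/-- The action on the lifts. -/
noncomputable def lact (d : D) : t.Lift →* t.Lift :=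
  MonoidHom.mk' (fun p => ⟨t.cx d p.x, au (t.act d) p.w, p.cl.act t d, by rw [← map_pow, p.pow, map_one]⟩)
    fun p q => Lift.ext (by simp only [mul_x, map_mul]) (by
      simp only [mul_w, map_mul, au_sc, be_cx])

theorem lact_x (d : D) (p : t.Lift) : (t.lact d p).x = t.cx d p.x := rfl
theorem lact_w (d : D) (p : t.Lift) : (t.lact d p).w = au (t.act d) p.w := rfl

theorem lact_mul (d e : D) (p : t.Lift) : t.lact (d * e) p = t.lact d (t.lact e p) :=
  Lift.ext (by simp only [lact_x, cx_mul]) (Units.ext (by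
    simp only [lact_w, coe_au, act_mul_apply]))

theorem lact_of_px (d : D) {p : t.Lift} (h : p.x = 1) : t.lact d p = p := by
  obtain ⟨c, hc⟩ := t.scalar_of_px h
  exact Lift.ext (by rw [lact_x, h, map_one]) (by rw [lact_w, hc, au_sc])

/-- Only the trivial element of the section is fixed. -/
theorem eq_one_of_fixed {x : t.X} (h : ∀ s ∈ t.S, t.cx s x = x) : x = 1 := by
  induction x using QuotientGroup.induction_on with | _ k => ?_
  refine t.mk_eq_one.mpr (t.fix k k.2 fun s hs => ?_)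
  have h1 := h s⁻¹ (inv_mem hs)
  have h2 := h s hs
  rw [cx_mk, eq_comm, QuotientGroup.eq, Subgroup.mem_subgroupOf] at h2
  have h3 := t.hLn.conj_mem _ h2 (k : D)
  simpa [cK, mul_assoc] using h3

/-- The norm under the acting group. -/
noncomputable def nr [Fintype t.S] : t.Lift →* t.Lift := ∏ s : t.S, t.lact s

theorem nr_apply [Fintype t.S] (p : t.Lift) : t.nr p = ∏ s : t.S, t.lact s p :=
  MonoidHom.finsetProd_apply _ _ _

theorem nr_x [Fintype t.S] (p : t.Lift) : (t.nr p).x = 1 := by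
  refine t.eq_one_of_fixed fun s hs => ?_
  rw [nr_apply, ← px_apply, map_prod, map_prod]
  refine Fintype.prod_equiv (Equiv.mulLeft (⟨s, hs⟩ : t.S)) _ _ fun r => ?_
  simp only [px_apply, lact_x, Equiv.coe_mulLeft, Subgroup.coe_mul, cx_mul]

theorem nr_of_px [Fintype t.S] {p : t.Lift} (h : p.x = 1) : t.nr p = p ^ Nat.card t.S := by
  rw [nr_apply, Nat.card_eq_fintype_card, ← Finset.card_univ, ← Finset.prod_const]
  exact Finset.prod_congr rfl fun s _ => t.lact_of_px (s : D) h

theorem eq_one_of_pow_card {p : t.Lift} (h : p ^ Nat.card t.S = 1) : p = 1 := by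
  have hc : (Nat.card t.X).Coprime (Nat.card t.S) := t.copN
  have h1 := pow_gcd_eq_one.mpr ⟨t.lift_pow_card p, h⟩
  rwa [hc.gcd_eq_one, pow_one] at h1

theorem exists_canon [Fintype t.S] (x : t.X) : ∃! p : t.Lift, p.x = x ∧ t.nr p = 1 := by
  obtain ⟨p, hp⟩ := t.exists_lift x
  have hinj : ∀ q q' : t.Lift, q.x = x → t.nr q = 1 → q'.x = x → t.nr q' = 1 → q = q' := by
    intro q q' h1 h2 h3 h4
    have hx : (q * q'⁻¹).x = 1 := by rw [mul_x, inv_x, h1, h3, mul_inv_cancel]
    have h5 : (q * q'⁻¹) ^ Nat.card t.S = 1 := by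
      rw [← t.nr_of_px hx, map_mul, map_inv, h2, h4, inv_one, one_mul]
    exact mul_inv_eq_one.mp (t.eq_one_of_pow_card h5)
  have hr := t.nr_x p
  have hc : (Nat.card t.S).Coprime (Nat.card t.X) := t.copN.symm
  obtain ⟨i, hi⟩ : ∃ i : ℕ, ∀ q : t.Lift, (q ^ i) ^ Nat.card t.S = q := by
    rcases (Nat.one_le_iff_ne_zero.mpr Nat.card_pos.ne' : 1 ≤ Nat.card t.X).eq_or_lt with h1 | h1
    · refine ⟨0, fun q => ?_⟩
      have h2 := t.lift_pow_card q
      rw [← h1, pow_one] at h2
      simp [h2]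
    · obtain ⟨a, -, ha⟩ := Nat.exists_mul_mod_eq_one_of_coprime hc h1
      refine ⟨a, fun q => ?_⟩
      rw [← pow_mul, mul_comm, pow_eq_pow_mod _ (t.lift_pow_card q), ha, pow_one]
  have hx : ((t.nr p) ^ i)⁻¹.x = 1 := by rw [inv_x, pow_x, t.nr_x, one_pow, inv_one]
  refine ⟨p * ((t.nr p) ^ i)⁻¹, ⟨by rw [mul_x, hx, hp, mul_one], ?_⟩,
    fun q hq => hinj q _ hq.1 hq.2 (by rw [mul_x, hx, hp, mul_one]) ?_⟩
  all_goals rw [map_mul, t.nr_of_px hx, inv_pow, hi, mul_inv_cancel]

/-- The canonical lift. -/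
noncomputable def can [Fintype t.S] (x : t.X) : t.Lift := Classical.choose (t.exists_canon x).exists

theorem can_x [Fintype t.S] (x : t.X) : (t.can x).x = x :=
  (Classical.choose_spec (t.exists_canon x).exists).1

theorem nr_can [Fintype t.S] (x : t.X) : t.nr (t.can x) = 1 :=
  (Classical.choose_spec (t.exists_canon x).exists).2

theorem can_unique [Fintype t.S] {x : t.X} {p : t.Lift} (h : p.x = x) (h' : t.nr p = 1) : p = t.can x :=
  (t.exists_canon x).unique ⟨h, h'⟩ ⟨t.can_x x, t.nr_can x⟩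

theorem can_mul [Fintype t.S] (x y : t.X) : t.can (x * y) = t.can x * t.can y :=
  (t.can_unique (by rw [mul_x, can_x, can_x]) (by rw [map_mul, nr_can, nr_can, one_mul])).symm

theorem lact_can_S [Fintype t.S] {s : D} (hs : s ∈ t.S) (x : t.X) : t.lact s (t.can x) = t.can (t.cx s x) := by
  refine t.can_unique (by rw [lact_x, can_x]) ?_
  rw [← t.nr_can x, nr_apply, nr_apply]
  refine Fintype.prod_equiv (Equiv.mulRight (⟨s, hs⟩ : t.S)) _ _ fun r => ?_
  rw [Equiv.coe_mulRight, Subgroup.coe_mul, lact_mul]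

theorem lact_can_C [Fintype t.S] {c : D} (hc : c ∈ t.C) (x : t.X) : t.lact c (t.can x) = t.can (t.cx c x) := by
  refine t.can_unique (by rw [lact_x, can_x]) ?_
  have h1 : t.nr (t.lact c (t.can x)) = t.lact c (t.nr (t.can x)) := by
    rw [nr_apply, nr_apply, map_prod]
    exact Finset.prod_congr rfl fun s _ => by rw [← lact_mul, ← lact_mul, t.comm _ s.2 c hc]
  rw [h1, nr_can, map_one]

/-- The canonical implementing elements. -/
noncomputable def el [Fintype t.S] (x : t.X) : M := ((t.can x).w : Mˣ)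

theorem el_mul [Fintype t.S] (x y : t.X) : t.el x * t.el y = (t.be x y : ℂ) • t.el (x * y) := by
  rw [el, el, el, ← Units.val_mul, can_mul, mul_w, can_x, can_x, Units.val_mul (sc _), coe_sc,
    ← Algebra.smul_def, smul_smul, Units.mul_inv, one_smul]

theorem el_one [Fintype t.S] : t.el 1 = 1 := by
  rw [el, ← t.can_unique (x := 1) (p := (1 : t.Lift)) rfl (map_one _), one_w, Units.val_one]

theorem act_el [Fintype t.S] {d : D} (hd : d ∈ t.S ∨ d ∈ t.C) (x : t.X) :
    t.act d (t.el x) = t.el (t.cx d x) := by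
  have h : t.lact d (t.can x) = t.can (t.cx d x) := hd.elim (fun h => t.lact_can_S h x) fun h => t.lact_can_C h x
  rw [el, el, ← h, lact_w, coe_au]

theorem ad_el [Fintype t.S] (x y : t.X) : t.ad x (t.el y) = (t.om x y : ℂ) • t.el y := by
  rw [el, ← coe_au, t.au_ad x (by simpa [can_x] using (t.can y).cl), Units.val_mul, coe_sc, Algebra.smul_def]

theorem el_commute [Fintype t.S] {Y : M} (hY : ∀ x, t.ad x Y = Y) (x : t.X) : t.el x * Y = Y * t.el x := by
  have h := (t.can x).cl Y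
  rw [hY] at h
  conv_rhs => rw [h]
  rw [el, Units.inv_mul_cancel_right]

end Twist

end CfsgLib.Char.OddSection
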