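import Cfsg.Agent.Lib.Char.OddSection.Invariant
import Cfsg.Agent.Lib.Char.OddSection.Clifford
import Cfsg.Agent.Lib.Coprime.Action

/-!
# The correspondence for an abelian section of a group of odd order
-/

set_option autoImplicit false
set_option linter.unusedSectionVars false

namespace CfsgLib.Char.OddSection

open scoped ComplexConjugate
open Cfsg CfsgLib.Char

universe u

attribute [local instance] instFintypeSub instFintypeSub₂ instFintypeIrr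

variable {Γ : Type u} [Group Γ] [Finite Γ] {G S C K L H : Subgroup Γ}

theorem conj_mem' (A : Subgroup Γ) {x y : Γ} (hx : x ∈ A) (hy : y ∈ A) : x * y * x⁻¹ ∈ A :=
  mul_mem (mul_mem hx hy) (inv_mem hx)

namespace Ctx

variable (c : Ctx G S C K L H) (φ : IrrCharacter L) (hφS : IsInv S L (φ : L → ℂ))
include c hφS

/-- An element of `K` carrying `φ` to an invariant character fixes it. -/
theorem fix_of_move {k : Γ} (hk : k ∈ K)
    (h : IsInv S L (tw ((c.hLn.mono c.hKG).le_normalizer hk) φ : L → ℂ)) :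
    k ∈ invSub L (φ : L → ℂ) := by
  have hnK := (c.hLn.mono c.hKG).le_normalizer
  set N := K ⊓ invSub L (φ : L → ℂ) with hN
  have hLN : L ≤ N := fun l hl => ⟨c.hLK hl, Subgroup.le_normalizer hl, isInv_self φ l hl⟩
  have hkN : ∀ y ∈ K, ∀ n ∈ N, y * n * y⁻¹ ∈ N := fun y hy n hn => by
    have h1 := mul_mem (hLN (c.hab y hy n hn.1)) hn
    rwa [inv_mul_cancel_right] at h1
  have hS : ∀ s ∈ S, s ∈ invSub L (φ : L → ℂ) := fun s hs => ⟨c.hLS.le_normalizer hs, hφS s hs⟩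
  have hSN : NormBy S N := fun s hs n hn =>
    ⟨c.hKS s hs n hn.1, conj_mem' _ (hS s hs) hn.2⟩
  obtain ⟨n, hn, hkn⟩ := CfsgLib.Coprime.exists_fixed_in_coset (A := S) (N := N) (k := k) hSN.le_normalizer
    ((c.cop.coprime_dvd_left (Subgroup.card_dvd_of_le (inf_le_left.trans c.hKG))).symm)
    (Or.inr (isSolvable_of_le' (inf_le_left.trans c.hKG) c.solv))
    (NormBy.le_normalizer (B := K) hkN hk) fun s hs => by
      refine ⟨K.mul_mem (c.hKS s hs k hk) (K.inv_mem hk), ?_, ?_⟩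
      · exact (Subgroup.normalizer (L : Set Γ)).mul_mem (hnK (c.hKS s hs k hk))
          ((Subgroup.normalizer (L : Set Γ)).inv_mem (hnK hk))
      intro a a' e
      -- `a` is moved to `k * b * k⁻¹`, the image of `b` under `k`
      have hm : k⁻¹ * a * k ∈ L := by simpa using c.hLn _ (inv_mem (c.hKG hk)) a a.2
      set b : L := ⟨_, hm⟩ with hb
      have hm2 : s⁻¹ * b * s ∈ L := by simpa using c.hLS _ (inv_mem hs) b b.2
      set d : L := ⟨_, hm2⟩ with hd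
      have h2 := h s hs d b (by simp [hd, mul_assoc])
      rw [tw_apply (hnK hk) φ b a (by simp [hb, mul_assoc]),
        tw_apply (hnK hk) φ d ⟨k * d * k⁻¹, c.hLn k (c.hKG hk) d d.2⟩ rfl] at h2
      rw [h2]
      refine hφS s hs _ a' ?_
      rw [e]
      simp only [hd, hb]
      group
  have hkC : k * n ∈ L := by
    refine c.fix _ (mul_mem hk hn.1) fun s hs => ?_
    rw [Subgroup.mem_centralizer_iff.mp hkn s hs, mul_inv_cancel_right, mul_inv_cancel]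
    exact one_mem _
  rw [show k = k * n * n⁻¹ by group]
  exact mul_mem (hLN hkC).2 (inv_mem hn.2)

/-- The inertia group. -/
theorem inertia_data :
    IsInertia L G (G ⊓ invSub L (φ : L → ℂ)) φ ∧
      IsInertia L H (H ⊓ (G ⊓ invSub L (φ : L → ℂ))) φ ∧
      Ctx (G ⊓ invSub L (φ : L → ℂ)) S (C ⊓ (G ⊓ invSub L (φ : L → ℂ))) (K ⊓ (G ⊓ invSub L (φ : L → ℂ))) L
        (H ⊓ (G ⊓ invSub L (φ : L → ℂ))) ∧
      IsInv (G ⊓ invSub L (φ : L → ℂ)) L (φ : L → ℂ) := by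
  set T := G ⊓ invSub L (φ : L → ℂ) with hT
  have hLT : L ≤ T := fun l hl => ⟨c.hLG hl, Subgroup.le_normalizer hl, isInv_self φ l hl⟩
  have hS : ∀ s ∈ S, s ∈ invSub L (φ : L → ℂ) := fun s hs => ⟨c.hLS.le_normalizer hs, hφS s hs⟩
  have hST : NormBy S T := fun s hs n hn =>
    ⟨c.hnorm s hs n hn.1, conj_mem' _ (hS s hs) hn.2⟩
  have hmem : ∀ b ∈ G, (b ∈ T ↔ ∀ a a' : L, (a' : Γ) = b * a * b⁻¹ → (φ : L → ℂ) a' = (φ : L → ℂ) a) := fun b hb =>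
    ⟨fun h => h.2.2, fun h => ⟨hb, c.hLn.le_normalizer hb, h⟩⟩
  refine ⟨⟨c.hLG, c.hLn, inf_le_left, hLT, hmem⟩, ⟨c.hLH, c.hLn.mono c.hHG, inf_le_left, le_inf c.hLH hLT,
    fun b hb => ⟨fun h => h.2.2.2, fun h => ⟨hb, (hmem b (c.hHG hb)).mpr h⟩⟩⟩, ?_, fun s hs => hs.2.2⟩
  refine
    { hnorm := hST
      cop := c.cop.coprime_dvd_left (Subgroup.card_dvd_of_le inf_le_left)
      odd := c.odd.of_dvd_nat (Subgroup.card_dvd_of_le inf_le_left)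
      solv := isSolvable_of_le' inf_le_left c.solv
      hC := ?_
      hLK := le_inf c.hLK hLT
      hKG := inf_le_right
      hKn := fun b hb a ha => ⟨c.hKn b hb.1 a ha.1, normBy_self T b hb a ha.2⟩
      hLn := c.hLn.mono inf_le_left
      hKS := fun s hs a ha => ⟨c.hKS s hs a ha.1, hST s hs a ha.2⟩
      hLS := c.hLS
      hab := fun a ha b hb => c.hab a ha.1 b hb.1
      hG := ?_
      hH := ?_
      fix := fun k hk h => c.fix k hk.1 h }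
  · rw [c.hC, inf_assoc, inf_comm (Subgroup.centralizer (S : Set Γ)), ← inf_assoc,
      inf_eq_right.mpr (inf_le_left : T ≤ G)]
  · refine le_antisymm (sup_le inf_le_right inf_le_right) fun g hg => ?_
    obtain ⟨k, hk, x, hx, rfl⟩ := c.decG hg.1
    have hnx : x ∈ Subgroup.normalizer (L : Set Γ) := c.hLn.le_normalizer (c.hCG hx)
    have hnk := (c.hLn.mono c.hKG).le_normalizer hk
    have e : (tw hnk φ : L → ℂ) = (tw (inv_mem hnx) φ : L → ℂ) := by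
      funext a
      have hm : x⁻¹ * a * x ∈ L := by simpa using c.hLn _ (inv_mem (c.hCG hx)) a a.2
      rw [tw_apply (inv_mem hnx) φ a ⟨_, hm⟩ (by simp [mul_assoc]),
        tw_apply hnk φ a ⟨k * a * k⁻¹, c.hLn k (c.hKG hk) a a.2⟩ rfl,
        hg.2.2 ⟨_, hm⟩ ⟨k * a * k⁻¹, c.hLn k (c.hKG hk) a a.2⟩ (by simp [mul_assoc])]
    have hkinv : k ∈ invSub L (φ : L → ℂ) := by
      refine c.fix_of_move φ hφS hk ?_
      rw [e]
      intro s hs a a' ea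
      have hm : x⁻¹ * a * x ∈ L := by simpa using c.hLn _ (inv_mem (c.hCG hx)) a a.2
      have hm' : x⁻¹ * a' * x ∈ L := by simpa using c.hLn _ (inv_mem (c.hCG hx)) a' a'.2
      rw [tw_apply (inv_mem hnx) φ a ⟨_, hm⟩ (by simp [mul_assoc]),
        tw_apply (inv_mem hnx) φ a' ⟨_, hm'⟩ (by simp [mul_assoc])]
      refine hφS s hs _ _ ?_
      show x⁻¹ * (a' : Γ) * x = s * (x⁻¹ * a * x) * s⁻¹
      rw [ea, show s * (x⁻¹ * (a : Γ) * x) * s⁻¹ = (s * x⁻¹) * a * ((s * x⁻¹)⁻¹) by group,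
        c.comm (inv_mem hx) hs]
      group
    have hkT : k ∈ T := ⟨c.hKG hk, hkinv⟩
    have hxT : x ∈ T := by
      have := mul_mem (inv_mem hkT) hg
      rwa [inv_mul_cancel_left] at this
    exact mul_mem (Subgroup.mem_sup_left ⟨hk, hkT⟩) (Subgroup.mem_sup_right ⟨hx, hxT⟩)
  · refine le_antisymm ?_ (sup_le (le_inf c.hLH hLT) (inf_le_inf c.hCH le_rfl))
    intro h hh
    obtain ⟨l, hl, x, hx, rfl⟩ := c.decH hh.1
    have hxT : x ∈ T := by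
      have := mul_mem (inv_mem (hLT hl)) hh.2
      rwa [inv_mul_cancel_left] at this
    exact mul_mem (Subgroup.mem_sup_left hl) (Subgroup.mem_sup_right ⟨hx, hxT⟩)

/-- Invariant conjugates of `φ` are conjugate under `C`. -/
theorem exists_conj_C {φ' : IrrCharacter L} (hφ'S : IsInv S L (φ' : L → ℂ)) {χ : IrrCharacter G}
    (h : mlt c.hLG χ φ ≠ 0) (h' : mlt c.hLG χ φ' ≠ 0) :
    ∃ x, ∃ hx : x ∈ C, φ' = tw (c.hLn.le_normalizer (c.hCG hx)) φ := by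
  obtain ⟨g, hg, hgφ⟩ := exists_conj c.hLG c.hLn h h'
  obtain ⟨k, hk, x, hx, rfl⟩ := c.decG hg
  refine ⟨x, hx, Subtype.ext (funext fun a => ?_)⟩
  have hnk := (c.hLn.mono c.hKG).le_normalizer hk
  have hnx := c.hLn.le_normalizer (c.hCG hx)
  have e : ∀ (a b d : L), (b : Γ) = x * a * x⁻¹ → (d : Γ) = k * b * k⁻¹ →
      (tw hnk φ : L → ℂ) b = (φ' : L → ℂ) a := fun a b d e1 e2 => by
    rw [tw_apply hnk φ b d e2, hgφ a d (by rw [e2, e1]; group)]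
  have hkinv : k ∈ invSub L (φ : L → ℂ) := by
    refine c.fix_of_move φ hφS hk fun s hs b b' eb => ?_
    have hm : x⁻¹ * b * x ∈ L := by simpa using c.hLn _ (inv_mem (c.hCG hx)) b b.2
    have hm' : x⁻¹ * b' * x ∈ L := by simpa using c.hLn _ (inv_mem (c.hCG hx)) b' b'.2
    rw [e ⟨_, hm⟩ b ⟨_, c.hLn k (c.hKG hk) b b.2⟩ (by simp [mul_assoc]) rfl,
      e ⟨_, hm'⟩ b' ⟨_, c.hLn k (c.hKG hk) b' b'.2⟩ (by simp [mul_assoc]) rfl]
    refine hφ'S s hs _ _ ?_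
    show x⁻¹ * (b' : Γ) * x = s * (x⁻¹ * b * x) * s⁻¹
    rw [eb, show s * (x⁻¹ * (b : Γ) * x) * s⁻¹ = (s * x⁻¹) * b * ((s * x⁻¹)⁻¹) by group,
      c.comm (inv_mem hx) hs]
    group
  rw [← e a (cjA hnx a) ⟨_, c.hLn k (c.hKG hk) _ (cjA hnx a).2⟩ rfl rfl, tw_apply hnk φ (cjA hnx a) ⟨_, c.hLn k (c.hKG hk) _ (cjA hnx a).2⟩ rfl,
    hkinv.2 (cjA hnx a) ⟨_, c.hLn k (c.hKG hk) _ (cjA hnx a).2⟩ rfl]
  rfl

/-- The correspondent in the inertia group is invariant. -/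
theorem down_inv {A B T : Subgroup Γ} {θ : IrrCharacter A} (i : IsInertia A B T θ) (hA : NormBy S A)
    (hB : NormBy S B) (hT : NormBy S T) (hθ : IsInv S A (θ : A → ℂ)) {χ : IrrCharacter B} {ξ : IrrCharacter T}
    (h : mlt i.hAT ξ θ ≠ 0) (h1 : mlt i.hTB χ ξ ≠ 0) (hχ : IsInv S B (χ : B → ℂ)) : IsInv S T (ξ : T → ℂ) :=
  isInv_of_tw hT fun _ hs => i.down_tw (hA.le_normalizer hs) (hB.le_normalizer hs) _ h h1
    (tw_eq_of_inv _ hs hθ) (tw_eq_of_inv _ hs hχ)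

omit c hφS in
/-- The character above an invariant one is invariant. -/
theorem up_inv {A B T : Subgroup Γ} {θ : IrrCharacter A} (i : IsInertia A B T θ) (hB : NormBy S B)
    (hT : NormBy S T) {χ : IrrCharacter B} {ξ : IrrCharacter T} (h : mlt i.hAT ξ θ ≠ 0)
    (h1 : mlt i.hTB χ ξ ≠ 0) (hξ : IsInv S T (ξ : T → ℂ)) : IsInv S B (χ : B → ℂ) :=
  isInv_of_tw hB fun _ hs => i.up_tw _ (hT.le_normalizer hs) h h1 (tw_eq_of_inv _ hs hξ)

/-- Multiplicities through the correspondence. -/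
theorem mlt_corr {χ : IrrCharacter G} {ψ : IrrCharacter H}
    {ξ : IrrCharacter (G ⊓ invSub L (φ : L → ℂ) : Subgroup Γ)}
    {η : IrrCharacter (H ⊓ (G ⊓ invSub L (φ : L → ℂ)) : Subgroup Γ)}
    (h1 : mlt (c.inertia_data φ hφS).1.hTB χ ξ ≠ 0) (h2 : mlt (c.inertia_data φ hφS).1.hAT ξ φ ≠ 0)
    (h3 : mlt (c.inertia_data φ hφS).2.1.hTB ψ η ≠ 0) (h4 : mlt (c.inertia_data φ hφS).2.1.hAT η φ ≠ 0) :
    mlt c.hHG χ ψ = mlt (inf_le_right : H ⊓ (G ⊓ invSub L (φ : L → ℂ)) ≤ G ⊓ invSub L (φ : L → ℂ)) ξ η := by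
  obtain ⟨iG, iH, -, -⟩ := c.inertia_data φ hφS
  rw [← iG.mlt_restrict h2 h1 iH.hAT inf_le_right h4]
  refine mlt_eq_of _ ?_
  rw [(iH.mlt_one h4 h3).2.2 _ (isClassFunction_res c.hHG (isClassFunction_irr χ)),
    ← classInner_res (inf_le_right.trans iG.hTB) χ η]
  rfl

end Ctx

variable (c : Ctx G S C K L H)
include c

theorem main_existsUnique (χ : IrrCharacter G) (hχ : IsInv S G (χ : G → ℂ)) :
    ∃ ψ : IrrCharacter H, IsInv S H (ψ : H → ℂ) ∧ Odd (mlt c.hHG χ ψ) ∧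
      ∀ ψ' : IrrCharacter H, IsInv S H (ψ' : H → ℂ) → Odd (mlt c.hHG χ ψ') → ψ' = ψ := by
  obtain ⟨φ, hφ, hφS⟩ := exists_below c.hLG c.hLn c.hLS c.hnorm c.cop c.solv χ hχ
  obtain ⟨iG, iH, cT, hφT⟩ := c.inertia_data φ hφS
  obtain ⟨ξ, h1, h2⟩ := iG.exists_down hφ
  have hξS := c.down_inv φ hφS iG c.hLS c.hnorm cT.hnorm hφS h2 h1 hχ
  obtain ⟨η, hη, hηφ, hηS, -⟩ := cT.odd_over φ hφT hφS ξ hξS h2
  obtain ⟨ψ, -, hψf⟩ := iH.exists_up η hηφ
  have h3 : mlt iH.hTB ψ η ≠ 0 := by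
    rw [mlt_eq_of iH.hTB (m := 1) (by rw [← hψf _ (isClassFunction_irr ψ), classInner_irr_self, Nat.cast_one])]
    exact one_ne_zero
  refine ⟨ψ, Ctx.up_inv iH c.normS_H cT.normS_H hηφ h3 hηS, ?_, fun ψ' hψ' ho => ?_⟩
  · rw [c.mlt_corr φ hφS h1 h2 h3 hηφ]
    exact (hη η).mpr rfl
  have hne : mlt c.hHG χ ψ' ≠ 0 := fun e => Nat.not_odd_zero (e ▸ ho)
  obtain ⟨φ', hφ', hφ'S⟩ := exists_below c.hLH (c.hLn.mono c.hHG) c.hLS c.normS_H c.copH
    (isSolvable_of_le' c.hHG c.solv) ψ' hψ'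
  obtain ⟨x, hx, rfl⟩ := c.exists_conj_C φ hφS hφ'S hφ (mlt_trans_ne c.hLH c.hHG hne hφ')
  have hψφ : mlt c.hLH ψ' φ ≠ 0 := by
    have e : tw ((normBy_self H).le_normalizer (c.hCH hx)) ψ' = ψ' :=
      tw_eq_of_inv _ (c.hCH hx) (isInv_self ψ')
    rw [← e, mlt_tw] at hφ'
    exact hφ'
  obtain ⟨η', h5, h6⟩ := iH.exists_down hψφ
  rw [c.mlt_corr φ hφS h1 h2 h5 h6] at ho
  obtain rfl := (hη η').mp ho
  exact iH.up_unique hηφ h5 h3

theorem main_injective {χ χ' : IrrCharacter G} (hχ : IsInv S G (χ : G → ℂ)) (hχ' : IsInv S G (χ' : G → ℂ))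
    {ψ : IrrCharacter H} (hψ : IsInv S H (ψ : H → ℂ)) (ho : Odd (mlt c.hHG χ ψ))
    (ho' : Odd (mlt c.hHG χ' ψ)) : χ = χ' := by
  obtain ⟨φ, hφ, hφS⟩ := exists_below c.hLH (c.hLn.mono c.hHG) c.hLS c.normS_H c.copH
    (isSolvable_of_le' c.hHG c.solv) ψ hψ
  obtain ⟨iG, iH, cT, hφT⟩ := c.inertia_data φ hφS
  have hov : ∀ {ζ : IrrCharacter G}, Odd (mlt c.hHG ζ ψ) → mlt c.hLG ζ φ ≠ 0 := fun {ζ} h =>
    mlt_trans_ne c.hLH c.hHG (fun e => Nat.not_odd_zero (e ▸ h)) hφ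
  obtain ⟨η, h3, h4⟩ := iH.exists_down hφ
  obtain ⟨ξ, h1, h2⟩ := iG.exists_down (hov ho)
  obtain ⟨ξ', h1', h2'⟩ := iG.exists_down (hov ho')
  rw [c.mlt_corr φ hφS h1 h2 h3 h4] at ho
  rw [c.mlt_corr φ hφS h1' h2' h3 h4] at ho'
  obtain rfl := cT.injective_over φ hφT hφS (c.down_inv φ hφS iG c.hLS c.hnorm cT.hnorm hφS h2 h1 hχ)
    (c.down_inv φ hφS iG c.hLS c.hnorm cT.hnorm hφS h2' h1' hχ') h2 h2' ho ho'
  exact iG.up_unique h2 h1 h1'

theorem main_surjective {ψ : IrrCharacter H} (hψ : IsInv S H (ψ : H → ℂ)) :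
    ∃ χ : IrrCharacter G, IsInv S G (χ : G → ℂ) ∧ Odd (mlt c.hHG χ ψ) := by
  obtain ⟨φ, hφ, hφS⟩ := exists_below c.hLH (c.hLn.mono c.hHG) c.hLS c.normS_H c.copH
    (isSolvable_of_le' c.hHG c.solv) ψ hψ
  obtain ⟨iG, iH, cT, hφT⟩ := c.inertia_data φ hφS
  obtain ⟨η, h3, h4⟩ := iH.exists_down hφ
  obtain ⟨ξ, hξS, h2, ho⟩ := cT.surjective_over φ hφT hφS η h4
  obtain ⟨χ, -, hf⟩ := iG.exists_up ξ h2
  have h1 : mlt iG.hTB χ ξ ≠ 0 := by
    rw [mlt_eq_of iG.hTB (m := 1) (by rw [← hf _ (isClassFunction_irr χ), classInner_irr_self, Nat.cast_one])]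
    exact one_ne_zero
  exact ⟨χ, Ctx.up_inv iG c.hnorm cT.hnorm h2 h1 hξS, by rw [c.mlt_corr φ hφS h1 h2 h3 h4]; exact ho⟩

end CfsgLib.Char.OddSection
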